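import Mathlib
import Cfsg.Agent.Lib.Solv.Primitive
import Cfsg.Agent.Lib.Solv.Cores

/-!
# Derangements in non-abelian minimal normal subgroups

In a group with a minimal normal transitive subgroup which is neither abelian nor simple, there are
derangements whose order is divisible by a prime different from any given one.
-/

set_option autoImplicit false
set_option linter.style.haveILetI false

namespace Cfsg.Lib.Recog

open Subgroup
open scoped Pointwise

universe u v

variable {G : Type u} [Group G]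

/-- Jordan: a proper subgroup misses some conjugacy class. -/
theorem exists_forall_conj_notMem [Finite G] {R : Subgroup G} (hR : R ≠ ⊤) :
    ∃ x : G, ∀ g : G, g * x * g⁻¹ ∉ R := by
  classical
  haveI := Fintype.ofFinite G
  by_contra hcon
  push Not at hcon
  have hb := MulAction.sum_card_fixedBy_eq_card_orbits_mul_card_group G (G ⧸ R)
  have h1 : Fintype.card (Quotient (MulAction.orbitRel G (G ⧸ R))) = 1 := by
    rw [Fintype.card_eq_one_iff]
    refine ⟨Quotient.mk _ ((1 : G) : G ⧸ R), fun c => ?_⟩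
    induction c using Quotient.ind with
    | _ a => exact Quotient.sound (MulAction.exists_smul_eq G ((1 : G) : G ⧸ R) a)
  rw [h1, one_mul] at hb
  have hpos : ∀ x : G, 1 ≤ Fintype.card (MulAction.fixedBy (G ⧸ R) x) := fun x => by
    obtain ⟨g, hg⟩ := hcon x
    refine Fintype.card_pos_iff.mpr ⟨⟨((g⁻¹ : G) : G ⧸ R), ?_⟩⟩
    show ((x * g⁻¹ : G) : G ⧸ R) = ((g⁻¹ : G) : G ⧸ R)
    refine QuotientGroup.eq.mpr ?_
    have h2 : (x * g⁻¹)⁻¹ * g⁻¹ = (g * x * g⁻¹)⁻¹ := by group
    rw [h2]; exact R.inv_mem hg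
  have h2 : 1 < Fintype.card (MulAction.fixedBy (G ⧸ R) (1 : G)) := by
    rw [← Nat.card_eq_fintype_card]
    have he : Nat.card (MulAction.fixedBy (G ⧸ R) (1 : G)) = R.index :=
      Nat.card_congr ⟨fun x => x.1, fun x => ⟨x, one_smul G x⟩, fun x => rfl, fun x => rfl⟩
    rw [he]
    exact R.one_lt_index_of_ne_top hR
  have h3 : (Finset.univ : Finset G).card < ∑ x : G, Fintype.card (MulAction.fixedBy (G ⧸ R) x) := by
    rw [Finset.card_eq_sum_ones]
    exact Finset.sum_lt_sum (fun x _ => hpos x) ⟨1, Finset.mem_univ _, h2⟩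
  rw [hb, Finset.card_univ] at h3
  exact lt_irrefl _ h3

/-- A non-abelian minimal normal subgroup is semisimple. -/
theorem exists_split [Finite G] {N : Subgroup G} [N.Normal] (hN : N ≠ ⊥)
    (hmin : ∀ K : Subgroup G, K.Normal → K ≤ N → K = ⊥ ∨ K = N) (hna : ¬ IsMulCommutative N)
    (hns : ¬ IsSimpleGroup N) :
    ∃ T C : Subgroup G, T ≤ N ∧ C ≤ N ∧ T ≠ ⊥ ∧ C ≠ ⊥ ∧ T ⊓ C = ⊥ ∧ N ≤ T ⊔ C ∧
      N ≤ normalizer (T : Set G) ∧ N ≤ normalizer (C : Set G) ∧
      ∀ t ∈ T, ∀ c ∈ C, Commute t c := by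
  have hns' : ¬ Group.IsSolvable N := fun hs => hna (Solv.minimal_normal_elementary hN hs hmin).1
  haveI : Nontrivial N := N.nontrivial_iff_ne_bot.mpr hN
  obtain ⟨S, hS, -, hS1, hSmin⟩ :=
    Solv.exists_minimal_normal_le (G := N) (N := ⊤) top_ne_bot
  haveI := hS
  have hSt : S ≠ ⊤ := fun e => hns ⟨fun K hK => by
    rcases hSmin K hK (e ▸ le_top) with h | h
    · exact Or.inl h
    · exact Or.inr (h.trans e)⟩
  set T := S.map N.subtype with hT
  have hTN : T ≤ N := map_subtype_le _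
  have hT1 : T ≠ ⊥ := fun e => hS1 ((map_eq_bot_iff_of_injective _ N.subtype_injective).mp e)
  have hTn : N ≤ normalizer (T : Set G) := by
    intro n hn
    refine mem_normalizer_iff.mpr fun y => ⟨?_, fun hy => ?_⟩
    · rintro ⟨s, hs, rfl⟩
      exact ⟨⟨n, hn⟩ * s * ⟨n, hn⟩⁻¹, hS.conj_mem s hs _, rfl⟩
    · obtain ⟨s, hs, hs'⟩ := hy
      refine ⟨⟨n, hn⟩⁻¹ * s * ⟨n, hn⟩⁻¹⁻¹, hS.conj_mem s hs _, ?_⟩
      show n⁻¹ * (s : G) * n⁻¹⁻¹ = y
      rw [show (s : G) = n * y * n⁻¹ from hs']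
      group
  set C := N ⊓ centralizer (T : Set G) with hC
  have hCn : N ≤ normalizer (C : Set G) := by
    have key : ∀ n ∈ N, ∀ y ∈ C, n * y * n⁻¹ ∈ C := by
      intro n hn y hy
      refine ⟨N.mul_mem (N.mul_mem hn hy.1) (N.inv_mem hn), mem_centralizer_iff.mpr fun t ht => ?_⟩
      have h1 := mem_centralizer_iff.mp hy.2 _
        ((mem_normalizer_iff.mp (inv_mem (hTn hn)) t).mp ht)
      calc t * (n * y * n⁻¹) = n * (n⁻¹ * t * n⁻¹⁻¹ * y) * n⁻¹ := by group
        _ = n * (y * (n⁻¹ * t * n⁻¹⁻¹)) * n⁻¹ := by rw [h1]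
        _ = _ := by group
    intro n hn
    refine mem_normalizer_iff.mpr fun y => ⟨key n hn y, fun hy => ?_⟩
    have h1 := key n⁻¹ (N.inv_mem hn) _ hy
    rwa [show n⁻¹ * (n * y * n⁻¹) * n⁻¹⁻¹ = y by group] at h1
  have hd : T ⊓ C = ⊥ := by
    by_contra hne
    have hsub : (T ⊓ C).subgroupOf N ≤ S := fun x hx => by
      obtain ⟨s, hs, hs'⟩ := hx.1
      rwa [← N.subtype_injective hs']
    haveI : ((T ⊓ C).subgroupOf N).Normal := ⟨fun x hx n =>
      ⟨(mem_normalizer_iff.mp (hTn n.2) _).mp hx.1, (mem_normalizer_iff.mp (hCn n.2) _).mp hx.2⟩⟩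
    rcases hSmin _ inferInstance hsub with h | h
    · refine hne ?_
      rw [← map_subgroupOf_eq_of_le (inf_le_left.trans hTN : T ⊓ C ≤ N), h, Subgroup.map_bot]
    · refine hns' ?_
      -- `S` is then abelian, so the solvable core of `N` is nontrivial
      have hSc : IsMulCommutative S := ⟨⟨fun a b => Subtype.ext (Subtype.ext
        (mem_centralizer_iff.mp (h.ge b.2).2.2 (a : N) ⟨a, a.2, rfl⟩))⟩⟩
      have hne2 : ¬ Subsingleton S := fun hh => hS1 (S.eq_bot_of_subsingleton)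
      obtain ⟨p, hp, hSp⟩ : ∃ p, p.Prime ∧ IsPGroup p S :=
        let ⟨_, p, hp, hSp, _⟩ := Solv.minimal_normal_elementary hS1
          (Group.isSolvable_of_comm fun a b => mul_comm' a b) hSmin
        ⟨p, hp, hSp⟩
      haveI := Fact.mk hp
      have hle : S ≤ Cfsg.pCore p N := Solv.le_pCore hS hSp
      have hmap : (Cfsg.pCore p N).map N.subtype = N := by
        rw [Solv.map_pCore_subgroup]
        refine (hmin (Cfsg.pCore p G ⊓ N) inferInstance inf_le_right).resolve_left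
          fun e => hT1 (le_bot_iff.mp ?_)
        rw [← e, ← Solv.map_pCore_subgroup]
        exact map_mono hle
      have hNp : IsPGroup p N := by
        have h1 := (Solv.isPGroup_pCore (G := N) p).map N.subtype
        rwa [hmap] at h1
      haveI := hNp.isNilpotent
      infer_instance
  have hcomm : ∀ t ∈ T, ∀ c ∈ C, Commute t c := fun t ht c hc => mem_centralizer_iff.mp hc.2 t ht
  -- every conjugate of `T` lies in `T` or in `C`
  have hconj : ∀ g : G, T.map (MulAut.conj g).toMonoidHom ≤ T ⊔ C := by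
    intro g
    set T' := T.map (MulAut.conj g).toMonoidHom with hT'
    have hT'N : T' ≤ N := by
      rintro _ ⟨t, ht, rfl⟩
      exact (inferInstance : N.Normal).conj_mem t (hTN ht) g
    have hT'n : N ≤ normalizer (T' : Set G) := by
      intro n hn
      have h1 := hTn ((inferInstance : N.Normal).conj_mem n hn g⁻¹)
      refine mem_normalizer_iff_map_conj_eq.mpr ?_
      rw [hT', Subgroup.map_map]
      have h2 := mem_normalizer_iff_map_conj_eq.mp h1
      conv_rhs => rw [← h2, Subgroup.map_map]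
      congr 1
      ext y
      simp [mul_assoc]
    by_cases hd' : T ⊓ T' = ⊥
    · refine le_sup_of_le_right (le_inf hT'N fun y hy => mem_centralizer_iff.mpr fun t ht => ?_)
      have h1 : t * y * t⁻¹ * y⁻¹ ∈ T ⊓ T' := by
        refine ⟨?_, T'.mul_mem ((mem_normalizer_iff.mp (hT'n (hTN ht)) y).mp hy) (T'.inv_mem hy)⟩
        rw [show t * y * t⁻¹ * y⁻¹ = t * (y * t⁻¹ * y⁻¹) by group]
        exact T.mul_mem ht ((mem_normalizer_iff.mp (hTn (hT'N hy)) _).mp (T.inv_mem ht))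
      rw [hd', mem_bot, mul_inv_eq_one, mul_inv_eq_iff_eq_mul] at h1
      exact h1
    · haveI : ((T ⊓ T').subgroupOf N).Normal := ⟨fun x hx n =>
        ⟨(mem_normalizer_iff.mp (hTn n.2) _).mp hx.1, (mem_normalizer_iff.mp (hT'n n.2) _).mp hx.2⟩⟩
      have hsub : (T ⊓ T').subgroupOf N ≤ S := fun x hx => by
        obtain ⟨s, hs, hs'⟩ := hx.1
        rwa [← N.subtype_injective hs']
      rcases hSmin _ inferInstance hsub with h | h
      · exact absurd (by rw [← map_subgroupOf_eq_of_le (inf_le_left.trans hTN : T ⊓ T' ≤ N), h,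
          Subgroup.map_bot]) hd'
      · have hle : T ≤ T' := fun y ⟨s, hs, hy⟩ => hy ▸ (h.ge hs).2
        refine le_sup_of_le_left (eq_of_le_of_card_ge hle ?_).ge
        rw [hT', card_map_of_injective (MulEquiv.injective _)]
  have hsup : N ≤ T ⊔ C := by
    let K : Subgroup G := normalClosure (T : Set G)
    have hKN : K ≤ N := normalClosure_le_normal hTN
    have hK : K = N := (hmin K inferInstance hKN).resolve_left fun e => hT1 (le_bot_iff.mp
      (e ▸ subset_normalClosure))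
    rw [← hK]
    refine (closure_le _).mpr fun y hy => ?_
    obtain ⟨t, ht, hty⟩ := Group.mem_conjugatesOfSet_iff.mp hy
    obtain ⟨g, hg⟩ := isConj_iff.mp hty
    exact hg ▸ hconj g ⟨t, ht, rfl⟩
  refine ⟨T, C, hTN, inf_le_left, hT1, fun e => ?_, hd, hsup, hTn, hCn, hcomm⟩
  rw [e, sup_bot_eq] at hsup
  exact hSt (top_le_iff.mp fun x _ => by
    obtain ⟨s, hs, hs'⟩ := hsup x.2
    rwa [← N.subtype_injective hs'])

/-- A non-trivial subgroup normalised by a non-abelian minimal normal subgroup containing it is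
not a `p`-group. -/
theorem exists_prime_ne [Finite G] {N : Subgroup G} [N.Normal] (hN : N ≠ ⊥)
    (hmin : ∀ K : Subgroup G, K.Normal → K ≤ N → K = ⊥ ∨ K = N) (hna : ¬ IsMulCommutative N)
    {X : Subgroup G} (hXN : X ≤ N) (hX : X ≠ ⊥) (hXn : N ≤ normalizer (X : Set G)) (p : ℕ) :
    ∃ q, q.Prime ∧ q ≠ p ∧ ∃ x ∈ X, orderOf x = q := by
  by_contra hcon
  push Not at hcon
  refine hna (Solv.minimal_normal_elementary hN ?_ hmin).1
  have hXp : ∀ q, q.Prime → q ∣ Nat.card X → q = p := fun q hq hd => by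
    haveI := Fact.mk hq
    obtain ⟨x, hx⟩ := exists_prime_orderOf_dvd_card' q hd
    by_contra hne
    exact hcon q hq hne x x.2 (by rw [Subgroup.orderOf_coe]; exact hx)
  obtain ⟨r, hr, hrd⟩ := Nat.exists_prime_and_dvd (n := Nat.card X)
    (fun e => hX (card_eq_one.mp e))
  obtain rfl := hXp r hr hrd
  haveI := Fact.mk hr
  have hXpg : IsPGroup r X := IsPGroup.of_card (Nat.eq_prime_pow_of_unique_prime_dvd Nat.card_pos.ne'
    fun {d} hd hdd => hXp d hd hdd)
  haveI : (X.subgroupOf N).Normal := ⟨fun x hx n => (mem_normalizer_iff.mp (hXn n.2) _).mp hx⟩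
  have hle : X.subgroupOf N ≤ Cfsg.pCore r N :=
    Solv.le_pCore inferInstance hXpg.comap_subtype
  have hmap : (Cfsg.pCore r N).map N.subtype = N := by
    rw [Solv.map_pCore_subgroup]
    refine (hmin (Cfsg.pCore r G ⊓ N) inferInstance inf_le_right).resolve_left
      fun e => hX (le_bot_iff.mp ?_)
    rw [← e, ← Solv.map_pCore_subgroup, ← map_subgroupOf_eq_of_le hXN]
    exact map_mono hle
  have hNp : IsPGroup r N := by
    have h1 := (Solv.isPGroup_pCore (G := N) r).map N.subtype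
    rwa [hmap] at h1
  haveI := hNp.isNilpotent
  infer_instance

variable {Ω : Type v} [MulAction G Ω]

/-- The dichotomy: either a normal factor is semiregular, or there are derangements of the form
`x * c` for every `c` in the complementary factor. -/
theorem derangement_dichotomy [Finite G] [FaithfulSMul G Ω] {N T C : Subgroup G}
    [hNt : MulAction.IsPretransitive N Ω] (hTN : T ≤ N) (hCN : C ≤ N) (hd : T ⊓ C = ⊥)
    (hsup : N ≤ T ⊔ C) (hTn : N ≤ normalizer (T : Set G)) (hcomm : ∀ t ∈ T, ∀ c ∈ C, Commute t c) :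
    (∀ t ∈ T, t ≠ 1 → ∀ ω : Ω, t • ω ≠ ω) ∨
      (∃ x ∈ T, x ≠ 1 ∧ ∀ c ∈ C, ∀ ω : Ω, (x * c) • ω ≠ ω) := by
  by_cases hemp : IsEmpty Ω
  · exact Or.inl fun t _ _ ω => hemp.elim ω
  rw [not_isEmpty_iff] at hemp
  obtain ⟨a⟩ := hemp
  -- decomposition of elements of `N`
  have hdec : ∀ n ∈ N, ∃ t ∈ T, ∃ c ∈ C, t * c = n := by
    intro n hn
    have hC : C ≤ normalizer (T : Set G) := hCN.trans hTn
    have h1 : n ∈ ((T ⊔ C : Subgroup G) : Set G) := hsup hn
    rw [coe_mul_of_right_le_normalizer_left T C hC] at h1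
    obtain ⟨t, ht, c, hc, h⟩ := h1
    exact ⟨t, ht, c, hc, h⟩
  -- the projection of the point stabiliser
  let R : Subgroup T :=
    { carrier := {t | ∃ c ∈ C, ((t : G) * c) • a = a}
      one_mem' := ⟨1, C.one_mem, by simp⟩
      mul_mem' := by
        rintro s t ⟨c, hc, h1⟩ ⟨d, hd, h2⟩
        refine ⟨c * d, C.mul_mem hc hd, ?_⟩
        show ((s : G) * (t : G) * (c * d)) • a = a
        rw [show (s : G) * t * (c * d) = (s : G) * ((t : G) * c) * d by group,
          (hcomm t t.2 c hc).eq, show (s : G) * (c * (t : G)) * d = ((s : G) * c) * ((t : G) * d) by group,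
          mul_smul, h2, h1]
      inv_mem' := by
        rintro t ⟨c, hc, h1⟩
        refine ⟨c⁻¹, C.inv_mem hc, ?_⟩
        show ((t : G)⁻¹ * c⁻¹) • a = a
        rw [← mul_inv_rev, ← (hcomm t t.2 c hc).eq, inv_smul_eq_iff, h1] }
  by_cases hR : R = ⊤
  · left
    intro t ht ht1 ω hω
    obtain ⟨⟨m, hm⟩, hma⟩ := MulAction.exists_smul_eq N ω a
    change m • ω = a at hma
    have hs : m * t * m⁻¹ ∈ T := (mem_normalizer_iff.mp (hTn hm) t).mp ht
    have hsa : (m * t * m⁻¹) • a = a := by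
      rw [← hma, mul_smul, mul_smul, inv_smul_smul, hω]
    -- `T ∩ N_a` is invariant under `T`
    have hinv : ∀ u ∈ T, (u * (m * t * m⁻¹) * u⁻¹) • a = a := by
      intro u hu
      obtain ⟨c, hc, hc'⟩ : (⟨u, hu⟩ : T) ∈ R := hR ▸ Subgroup.mem_top _
      have he : u * (m * t * m⁻¹) * u⁻¹ = (u * c) * (m * t * m⁻¹) * (u * c)⁻¹ := by
        rw [show (u * c) * (m * t * m⁻¹) * (u * c)⁻¹ = u * (c * (m * t * m⁻¹)) * c⁻¹ * u⁻¹ by group,
          ← (hcomm _ hs c hc).eq]
        group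
      rw [he, mul_smul, mul_smul, inv_smul_eq_iff.mpr hc'.symm, hsa]
      exact hc'
    have hfix : ∀ w : Ω, (m * t * m⁻¹) • w = w := by
      intro w
      obtain ⟨⟨n, hn⟩, hw⟩ := MulAction.exists_smul_eq N a w
      change n • a = w at hw
      obtain ⟨u, hu, c, hc, rfl⟩ := hdec n hn
      have he : (u * c)⁻¹ * (m * t * m⁻¹) * (u * c) = u⁻¹ * (m * t * m⁻¹) * u⁻¹⁻¹ := by
        have h1 : Commute (u⁻¹ * (m * t * m⁻¹) * u) c :=
          hcomm _ (T.mul_mem (T.mul_mem (T.inv_mem hu) hs) hu) c hc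
        rw [show (u * c)⁻¹ * (m * t * m⁻¹) * (u * c) = c⁻¹ * ((u⁻¹ * (m * t * m⁻¹) * u) * c) by group,
          h1.eq]
        group
      have h2 := hinv u⁻¹ (T.inv_mem hu)
      rw [← he, mul_smul ((u * c)⁻¹ * (m * t * m⁻¹)) (u * c) a,
        mul_smul (u * c)⁻¹ (m * t * m⁻¹), inv_smul_eq_iff, hw] at h2
      exact h2
    refine ht1 (conj_eq_one_iff.mp (show m * t * m⁻¹ = 1 from
      eq_of_smul_eq_smul (α := Ω) fun w => ?_))
    rw [hfix w, one_smul]
  · right
    obtain ⟨x, hx⟩ := exists_forall_conj_notMem hR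
    refine ⟨x, x.2, fun e => hx 1 (by
      have h1 : x = 1 := Subtype.ext e
      subst h1; simp),
      fun c hc ω hω => ?_⟩
    obtain ⟨⟨n, hn⟩, hna⟩ := MulAction.exists_smul_eq N a ω
    change n • a = ω at hna
    obtain ⟨u, hu, d, hd', rfl⟩ := hdec n hn
    refine hx ⟨u, hu⟩⁻¹ ⟨d⁻¹ * c * d, C.mul_mem (C.mul_mem (C.inv_mem hd') hc) hd', ?_⟩
    show (u⁻¹ * (x : G) * u⁻¹⁻¹ * (d⁻¹ * c * d)) • a = a
    have he : (u * d)⁻¹ * ((x : G) * c) * (u * d) = u⁻¹ * (x : G) * u⁻¹⁻¹ * (d⁻¹ * c * d) := by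
      have h1 : Commute (u⁻¹ * (x : G) * u) d⁻¹ :=
        hcomm _ (T.mul_mem (T.mul_mem (T.inv_mem hu) x.2) hu) d⁻¹ (C.inv_mem hd')
      have h2 : Commute u c := hcomm u hu c hc
      rw [show (u * d)⁻¹ * ((x : G) * c) * (u * d) = d⁻¹ * (u⁻¹ * (x : G) * (c * u)) * d by group,
        ← h2.eq, show d⁻¹ * (u⁻¹ * (x : G) * (u * c)) * d = (d⁻¹ * (u⁻¹ * (x : G) * u)) * (c * d) by group,
        ← h1.eq]
      group
    rw [← he, mul_smul, mul_smul, inv_smul_eq_iff, hna]
    exact hω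

end Cfsg.Lib.Recog
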