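import Mathlib

/-!
# Derangements of groups with a regular abelian normal subgroup
-/

set_option autoImplicit false
set_option linter.style.haveILetI false

namespace Cfsg.Lib.Recog

open MulAction

universe u v

variable {G : Type u} [Group G] {Ω : Type v} [MulAction G Ω] {N : Subgroup G}
  [hN : N.Normal] [hc : IsMulCommutative N] [hNt : IsPretransitive N Ω]

/-- A regular normal subgroup consists of derangements. -/
theorem derangement_of_regular (hreg : ∀ a : Ω, stabilizer N a = ⊥) {m : G} (hm : m ∈ N)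
    (hm1 : m ≠ 1) (ω : Ω) : m • ω ≠ ω := fun h => hm1 (by
  have : (⟨m, hm⟩ : N) ∈ stabilizer N ω := h
  rw [hreg ω, Subgroup.mem_bot] at this
  exact congrArg Subtype.val this)

/-- An element of a point stabiliser with two fixed points gives derangements outside `N`. -/
theorem exists_outside_derangement [Finite G] (hreg : ∀ a : Ω, stabilizer N a = ⊥) {h : G}
    (hh : h ≠ 1) {a b : Ω} (hab : a ≠ b) (ha : h • a = a) (hb : h • b = b) :
    ∃ g : G, g ∉ N ∧ ∀ ω : Ω, g • ω ≠ ω := by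
  have hinj : ∀ {x y : G}, x ∈ N → y ∈ N → x • a = y • a → x = y := by
    intro x y hx hy hxy
    by_contra hne
    exact derangement_of_regular hreg (N.mul_mem (N.inv_mem hy) hx)
      (fun e => hne (inv_mul_eq_one.mp e).symm) a (by rw [mul_smul, hxy, inv_smul_smul])
  let φ : N →* N :=
    { toFun := fun n => ⟨h * (n : G) * h⁻¹ * (n : G)⁻¹,
        N.mul_mem (hN.conj_mem _ n.2 h) (N.inv_mem n.2)⟩
      map_one' := Subtype.ext (by simp)
      map_mul' := fun x y => Subtype.ext (by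
        show h * ((x : G) * y) * h⁻¹ * ((x : G) * y)⁻¹ =
          h * (x : G) * h⁻¹ * (x : G)⁻¹ * (h * (y : G) * h⁻¹ * (y : G)⁻¹)
        have h1 : (x : G)⁻¹ * (h * (y : G) * h⁻¹ * (y : G)⁻¹) =
            (h * (y : G) * h⁻¹ * (y : G)⁻¹) * (x : G)⁻¹ :=
          congrArg Subtype.val (mul_comm' (x⁻¹ : N)
            ⟨_, N.mul_mem (hN.conj_mem _ y.2 h) (N.inv_mem y.2)⟩)
        rw [show h * (x : G) * h⁻¹ * (x : G)⁻¹ * (h * (y : G) * h⁻¹ * (y : G)⁻¹) =
          h * (x : G) * h⁻¹ * ((x : G)⁻¹ * (h * (y : G) * h⁻¹ * (y : G)⁻¹)) by group, h1]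
        group) }
  obtain ⟨⟨n₀, hn₀⟩, hn₀b⟩ := MulAction.exists_smul_eq N a b
  change n₀ • a = b at hn₀b
  have hfix : h * n₀ * h⁻¹ = n₀ := hinj (hN.conj_mem _ hn₀ h) hn₀ (by
    rw [mul_smul, mul_smul, inv_smul_eq_iff.mpr ha.symm, hn₀b, hb])
  have hns : ¬ Function.Surjective φ := fun hs => hab (by
    have hi := Finite.injective_iff_surjective.mpr hs
    have h2 : φ ⟨n₀, hn₀⟩ = φ 1 := Subtype.ext (by
      show h * n₀ * h⁻¹ * n₀⁻¹ = ((φ 1 : N) : G)
      rw [hfix, mul_inv_cancel, map_one]; rfl)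
    have h3 : n₀ = 1 := congrArg Subtype.val (hi h2)
    rw [← hn₀b, h3, one_smul])
  simp only [Function.Surjective, not_forall, not_exists] at hns
  obtain ⟨⟨m, hm⟩, hmne⟩ := hns
  refine ⟨m * h, fun hmh => hh ?_, fun ω hω => ?_⟩
  · by_contra hne
    have hhN : h ∈ N := by
      have h1 : h = m⁻¹ * (m * h) := by group
      rw [h1]; exact N.mul_mem (N.inv_mem hm) hmh
    exact derangement_of_regular hreg hhN hne a ha
  · obtain ⟨⟨n, hn⟩, hna⟩ := MulAction.exists_smul_eq N a ω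
    change n • a = ω at hna
    have h1 : m * (h * n * h⁻¹) = n := hinj (N.mul_mem hm (hN.conj_mem _ hn h)) hn (by
      rw [mul_smul, mul_smul, mul_smul, inv_smul_eq_iff.mpr ha.symm, hna, ← mul_smul]
      exact hω)
    refine hmne (⟨n, hn⟩⁻¹) (Subtype.ext ?_)
    rw [map_inv]
    show (h * n * h⁻¹ * n⁻¹)⁻¹ = m
    conv_rhs => rw [show m = n * (h * n * h⁻¹)⁻¹ by
      calc m = m * (h * n * h⁻¹) * (h * n * h⁻¹)⁻¹ := by group
        _ = _ := by rw [h1]]
    group

/-- If all non-identity elements of `N` are conjugate then `G` is doubly transitive. -/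
theorem two_transitive_of_conj (hreg : ∀ a : Ω, stabilizer N a = ⊥)
    (hconj : ∀ m ∈ N, ∀ n ∈ N, m ≠ 1 → n ≠ 1 → IsConj m n) : IsMultiplyPretransitive G Ω 2 := by
  refine is_two_pretransitive_iff.mpr fun {a b c d} hab hcd => ?_
  obtain ⟨⟨m, hm⟩, hma⟩ := MulAction.exists_smul_eq N a b
  change m • a = b at hma
  obtain ⟨⟨n, hn⟩, hnc⟩ := MulAction.exists_smul_eq N c d
  change n • c = d at hnc
  obtain ⟨g, hg⟩ := isConj_iff.mp (hconj m hm n hn (fun e => hab (by rw [← hma, e, one_smul]))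
    (fun e => hcd (by rw [← hnc, e, one_smul])))
  obtain ⟨⟨u, hu⟩, hua⟩ := MulAction.exists_smul_eq N (g • a) c
  change u • g • a = c at hua
  refine ⟨u * g, by rw [mul_smul, hua], ?_⟩
  have h1 : g • b = n • g • a := by rw [← hma, ← hg, mul_smul, mul_smul, inv_smul_smul]
  have h2 : u * n = n * u := congrArg Subtype.val (mul_comm' (⟨u, hu⟩ : N) ⟨n, hn⟩)
  rw [mul_smul, h1, ← mul_smul, h2, mul_smul, hua, hnc]

/-- Without two-point stabilisers every derangement lies in `N`. -/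
theorem mem_of_derangement [Finite G] [Nonempty Ω] (hreg : ∀ a : Ω, stabilizer N a = ⊥)
    (hfree : ∀ g : G, g ≠ 1 → ∀ a b : Ω, a ≠ b → g • a = a → g • b ≠ b) {g : G}
    (hg : ∀ ω : Ω, g • ω ≠ ω) : g ∈ N := by
  by_contra hgN
  obtain ⟨a⟩ := ‹Nonempty Ω›
  obtain ⟨⟨m, hm⟩, hma⟩ := MulAction.exists_smul_eq N a (g • a)
  change m • a = g • a at hma
  obtain ⟨h, hh⟩ : ∃ h, h = m⁻¹ * g := ⟨_, rfl⟩
  have ha : h • a = a := by rw [hh, mul_smul, ← hma, inv_smul_smul]
  have hh1 : h ≠ 1 := fun e => hgN (by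
    rw [hh] at e
    rw [← inv_mul_eq_one.mp e]; exact hm)
  let φ : N → N := fun n =>
    ⟨(n : G) * (h * (n : G) * h⁻¹)⁻¹, N.mul_mem n.2 (N.inv_mem (hN.conj_mem _ n.2 h))⟩
  have hi : Function.Injective φ := by
    intro x y hxy
    have h1 : (x : G) * (h * (x : G) * h⁻¹)⁻¹ = (y : G) * (h * (y : G) * h⁻¹)⁻¹ :=
      congrArg Subtype.val hxy
    set z : G := (y : G)⁻¹ * x with hz
    have hzN : z ∈ N := N.mul_mem (N.inv_mem y.2) x.2
    have h2 : h * z * h⁻¹ = z := by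
      have h3 : (y : G)⁻¹ * x = (h * (y : G) * h⁻¹)⁻¹ * (h * (x : G) * h⁻¹) := by
        calc (y : G)⁻¹ * x = (y : G)⁻¹ * ((x : G) * (h * (x : G) * h⁻¹)⁻¹) * (h * (x : G) * h⁻¹) := by
              group
          _ = _ := by rw [h1]; group
      rw [hz]
      conv_rhs => rw [h3]
      group
    by_contra hne
    have hz1 : z ≠ 1 := fun e => hne (Subtype.ext (inv_mul_eq_one.mp e).symm)
    refine hfree h hh1 a (z • a) (fun e => derangement_of_regular hreg hzN hz1 a e.symm) ha ?_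
    have h4 : h * z = z * h := mul_inv_eq_iff_eq_mul.mp h2
    rw [← mul_smul, h4, mul_smul, ha]
  obtain ⟨⟨n, hn⟩, hnm⟩ := (Finite.injective_iff_surjective.mp hi) ⟨m, hm⟩
  refine hg (n • a) ?_
  have h1 : n * (h * n * h⁻¹)⁻¹ = m := congrArg Subtype.val hnm
  rw [show g = m * h by rw [hh]; group, ← h1, ← mul_smul,
    show n * (h * n * h⁻¹)⁻¹ * h * n = n * h by group, mul_smul, ha]

end Cfsg.Lib.Recog
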