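import Mathlib
import Cfsg.Agent.Lib.Solv.Frobenius
import Cfsg.Agent.Lib.Solv.MinNormal

/-!
Three pairwise non-adjacent vertices of the prime graph
-/

set_option autoImplicit false

namespace Cfsg.Lib.Recog

open Subgroup

universe u

variable {G : Type u} [Group G] [Finite G]

theorem exists_orderOf_eq_mul_of_commute {p q : ℕ} (hp : p.Prime) (hq : q.Prime) (hpq : p ≠ q)
    {a b : G} (hc : Commute a b) (ha : p ∣ orderOf a) (hb : q ∣ orderOf b) :
    ∃ z : G, orderOf z = p * q := by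
  obtain ⟨i, hi⟩ := ha
  obtain ⟨j, hj⟩ := hb
  refine ⟨a ^ i * b ^ j, ?_⟩
  have hi0 : i ≠ 0 := fun h => (orderOf_pos a).ne' (by rw [hi, h, mul_zero])
  have hj0 : j ≠ 0 := fun h => (orderOf_pos b).ne' (by rw [hj, h, mul_zero])
  have h1 : orderOf (a ^ i) = p := by
    rw [orderOf_pow_of_dvd hi0 ⟨p, by rw [hi, mul_comm]⟩, hi, Nat.mul_div_cancel _ (Nat.pos_of_ne_zero hi0)]
  have h2 : orderOf (b ^ j) = q := by
    rw [orderOf_pow_of_dvd hj0 ⟨q, by rw [hj, mul_comm]⟩, hj, Nat.mul_div_cancel _ (Nat.pos_of_ne_zero hj0)]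
  rw [(hc.pow_pow i j).orderOf_mul_eq_mul_orderOf_of_coprime, h1, h2]
  rw [h1, h2]
  exact (Nat.coprime_primes hp hq).mpr hpq

/-- Three primes in three layers of a normal series are not pairwise non-adjacent. -/
theorem exists_orderOf_of_layers (K M : Subgroup G) [K.Normal] [M.Normal] (hKM : K ≤ M)
    (p q r : ℕ) (hp : p.Prime) (hq : q.Prime) (hr : r.Prime) (hpq : p ≠ q) (hpr : p ≠ r)
    (hqr : q ≠ r) (hpK : p ∣ Nat.card K) (hqM : q ∣ K.relIndex M) (hrG : r ∣ M.index) :
    (∃ x : G, orderOf x = p * q) ∨ (∃ x : G, orderOf x = p * r) ∨ (∃ x : G, orderOf x = q * r) := by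
  by_contra hcon
  push Not at hcon
  obtain ⟨hn1, hn2, hn3⟩ := hcon
  haveI := Fact.mk hp
  haveI := Fact.mk hq
  haveI := Fact.mk hr
  obtain ⟨P⟩ := (inferInstance : Nonempty (Sylow p K))
  set P' := (P : Subgroup K).map K.subtype with hP'
  set N := normalizer (P' : Set G) with hN
  have htop : N ⊔ K = ⊤ := Sylow.normalizer_sup_eq_top P
  -- a Sylow `q`-subgroup of `M ⊓ N`
  have hM1 : (M ⊓ N) ⊔ K = M := by
    refine le_antisymm (sup_le inf_le_left hKM) fun m hm => ?_
    obtain ⟨n, hn, k, hk, rfl⟩ := mem_sup_of_normal_right.1 (htop.ge (mem_top m))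
    exact mul_mem_sup ⟨by simpa using M.mul_mem hm (M.inv_mem (hKM hk)), hn⟩ hk
  have hqM1 : q ∣ Nat.card (M.subgroupOf N) := by
    rw [← hM1, relIndex_sup_right, ] at hqM
    refine hqM.trans ((relIndex_dvd_card _ _).trans (dvd_of_eq ?_))
    rw [← inf_subgroupOf_right]
    exact (Nat.card_congr (subgroupOfEquivOfLe (inf_le_right : M ⊓ N ≤ N)).toEquiv).symm
  obtain ⟨Q⟩ := (inferInstance : Nonempty (Sylow q (M.subgroupOf N)))
  set Q₁ := (Q : Subgroup (M.subgroupOf N)).map (M.subgroupOf N).subtype with hQ₁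
  have htop2 : normalizer (Q₁ : Set N) ⊔ M.subgroupOf N = ⊤ := Sylow.normalizer_sup_eq_top Q
  have hrN : r ∣ Nat.card (normalizer (Q₁ : Set N)) := by
    have h1 : (M.subgroupOf N).index = M.index := by
      have h2 : M ⊔ N = ⊤ := top_le_iff.1 (htop.ge.trans (sup_le le_sup_right (hKM.trans le_sup_left)))
      show M.relIndex N = _
      rw [← relIndex_top_right, ← h2, sup_comm, relIndex_sup_right]
    rw [← h1, ← relIndex_top_right, ← htop2, relIndex_sup_right] at hrG
    exact hrG.trans (relIndex_dvd_card _ _)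
  obtain ⟨x₀, hx₀⟩ := exists_prime_orderOf_dvd_card' r hrN
  set x : G := ((x₀ : N) : G) with hx
  have hxr : orderOf x = r := by rw [hx, Subgroup.orderOf_coe, Subgroup.orderOf_coe, hx₀]
  set Q' := Q₁.map N.subtype with hQ'
  have hxQ : x ∈ normalizer (Q' : Set G) :=
    le_normalizer_map N.subtype (mem_map_of_mem N.subtype x₀.2)
  have hQN : Q' ≤ N := map_subtype_le _
  have hQne : Q' ≠ ⊥ := by
    intro h
    rw [hQ', (map_eq_bot_iff_of_injective _ N.subtype_injective), hQ₁,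
      (map_eq_bot_iff_of_injective _ (M.subgroupOf N).subtype_injective)] at h
    exact Q.ne_bot_of_dvd_card hqM1 h
  have hQp : IsPGroup q Q' := (Q.isPGroup'.map _).map _
  -- the group `Q' ⊔ ⟨x⟩`
  set A := Q' ⊔ zpowers x with hA
  have hxA : x ∈ A := le_sup_right (α := Subgroup G) (mem_zpowers x)
  have hAQ : A ≤ normalizer (Q' : Set G) := sup_le le_normalizer (zpowers_le.2 hxQ)
  haveI : (Q'.subgroupOf A).Normal := normal_subgroupOf_of_le_normalizer hAQ
  have hcard1 : Nat.card (Q'.subgroupOf A) = Nat.card Q' :=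
    Nat.card_congr (subgroupOfEquivOfLe le_sup_left).toEquiv
  have hcard2 : Nat.card ((zpowers x).subgroupOf A) = r := by
    rw [Nat.card_congr (subgroupOfEquivOfLe (le_sup_right : zpowers x ≤ A)).toEquiv,
      Nat.card_zpowers, hxr]
  obtain ⟨k, hk⟩ := (IsPGroup.iff_card).1 hQp
  have hcompl : IsComplement' (Q'.subgroupOf A) ((zpowers x).subgroupOf A) := by
    refine isComplement'_of_disjoint_and_mul_eq_univ ?_ ?_
    · refine disjoint_iff.2 (inf_eq_bot_of_coprime ?_)
      rw [hcard1, hcard2, hk]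
      exact Nat.Coprime.pow_left _ ((Nat.coprime_primes hq hr).mpr hqr)
    · rw [← normal_mul, ← subgroupOf_sup le_sup_left le_sup_right, subgroupOf_self, coe_top]
  have hAcard : Nat.card A = q ^ k * r := by rw [← hcompl.card_mul, hcard1, hcard2, hk]
  have hfrob : Cfsg.IsFrobeniusComplement ((zpowers x).subgroupOf A) := by
    refine Cfsg.Lib.Solv.isFrobeniusComplement_of_fpf hcompl (fun h => hQne ?_) (fun h => ?_) ?_
    · rwa [subgroupOf_eq_bot, disjoint_iff, inf_eq_left.2 (le_sup_left : Q' ≤ A)] at h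
    · rw [h, card_bot] at hcard2; exact hr.one_lt.ne hcard2
    · intro h hh h1
      rw [eq_bot_iff]
      rintro u ⟨hu, hu2⟩
      rw [mem_bot]
      by_contra hu1
      suffices h' : ∃ z : G, orderOf z = q * r from h'.elim hn3
      refine exists_orderOf_eq_mul_of_commute hq hr hqr (a := (u : G)) (b := (h : G))
        (congrArg Subtype.val (mem_centralizer_singleton_iff.1 hu2)) ?_ ?_
      · have hu' : (u : G) ∈ Q' := hu
        obtain ⟨j, hj⟩ := (IsPGroup.iff_orderOf.1 hQp) ⟨(u : G), hu'⟩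
        rw [Subgroup.orderOf_mk] at hj
        rcases j with _ | j
        · rw [pow_zero, orderOf_eq_one_iff] at hj
          exact absurd (Subtype.ext hj) hu1
        · rw [hj, pow_succ]; exact dvd_mul_left _ _
      · have h2 : orderOf (h : G) ∣ r := by
          have hh' : (h : G) ∈ zpowers x := hh
          have h3 := orderOf_dvd_natCard (⟨(h : G), hh'⟩ : zpowers x)
          rwa [Subgroup.orderOf_mk, Nat.card_zpowers, hxr] at h3
        rcases (Nat.dvd_prime hr).1 h2 with h3 | h3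
        · exact absurd (Subtype.ext (orderOf_eq_one_iff.1 h3)) h1
        · rw [h3]
  -- the centre of `P'`
  set V := P' ⊓ centralizer (P' : Set G) with hV
  haveI : IsMulCommutative V := ⟨⟨fun a b => Subtype.ext
    ((mem_centralizer_iff.1 b.2.2) a a.2.1)⟩⟩
  have hAN : A ≤ N := sup_le hQN (zpowers_le.2 (x₀ : N).2)
  have hAV : A ≤ normalizer (V : Set G) := hAN.trans fun g hg => by
    have key : ∀ g ∈ N, ∀ v ∈ V, g * v * g⁻¹ ∈ V := by
      intro g hg v hv
      refine ⟨(mem_normalizer_iff.1 hg v).1 hv.1, mem_centralizer_iff.2 fun w hw => ?_⟩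
      have hw' : g⁻¹ * w * g⁻¹⁻¹ ∈ P' := (mem_normalizer_iff.1 (N.inv_mem hg) w).1 hw
      have h := (mem_centralizer_iff.1 hv.2) _ hw'
      calc w * (g * v * g⁻¹) = g * (g⁻¹ * w * g⁻¹⁻¹ * v) * g⁻¹ := by group
        _ = g * (v * (g⁻¹ * w * g⁻¹⁻¹)) * g⁻¹ := by rw [h]
        _ = _ := by group
    refine mem_normalizer_iff.2 fun v => ⟨key g hg v, fun h => ?_⟩
    have h2 := key g⁻¹ (N.inv_mem hg) _ h
    have e : g⁻¹ * (g * v * g⁻¹) * g⁻¹⁻¹ = v := by group
    rwa [e] at h2
  have hPp : IsPGroup p P' := P.isPGroup'.map _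
  have hVne : V ≠ ⊥ := by
    have hPne : P' ≠ ⊥ := by
      rw [hP', Ne, (map_eq_bot_iff_of_injective _ K.subtype_injective)]
      exact P.ne_bot_of_dvd_card hpK
    haveI := (nontrivial_iff_ne_bot P').2 hPne
    haveI := hPp.center_nontrivial
    obtain ⟨z, hz⟩ := exists_ne (1 : center P')
    intro h
    refine hz (Subtype.ext (Subtype.ext ?_))
    have h1 : ((z : P') : G) ∈ V := ⟨(z : P').2, mem_centralizer_iff.2 fun w hw =>
      congrArg Subtype.val (mem_center_iff.1 z.2 ⟨w, hw⟩)⟩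
    rw [h, mem_bot] at h1
    exact h1
  refine hVne (Cfsg.Lib.Solv.frobenius_not_fpf A V hAV ?_ _ hfrob)
  intro a ha ha1
  rw [eq_bot_iff]
  rintro v ⟨hv, hva⟩
  rw [mem_bot]
  by_contra hv1
  obtain ⟨t, ht, htd⟩ := Nat.exists_prime_and_dvd (mt orderOf_eq_one_iff.1 ha1)
  have hpv : p ∣ orderOf v := by
    obtain ⟨j, hj⟩ := (IsPGroup.iff_orderOf.1 hPp) ⟨v, hv.1⟩
    rw [Subgroup.orderOf_mk] at hj
    rcases j with _ | j
    · rw [pow_zero, orderOf_eq_one_iff] at hj
      exact absurd hj hv1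
    · rw [hj, pow_succ]; exact dvd_mul_left _ _
  have hcv : Commute v a := mem_centralizer_singleton_iff.1 hva
  have htA : t ∣ q ^ k * r := hAcard ▸ htd.trans
    ((Subgroup.orderOf_mk a ha).symm ▸ orderOf_dvd_natCard _)
  rcases ht.dvd_mul.1 htA with h | h
  · obtain rfl := (Nat.prime_dvd_prime_iff_eq ht hq).1 (ht.dvd_of_dvd_pow h)
    obtain ⟨z, hz⟩ := exists_orderOf_eq_mul_of_commute hp hq hpq hcv hpv htd
    exact hn1 z hz
  · obtain rfl := (Nat.prime_dvd_prime_iff_eq ht hr).1 h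
    obtain ⟨z, hz⟩ := exists_orderOf_eq_mul_of_commute hp hr hpr hcv hpv htd
    exact hn2 z hz

theorem relIndex_eq_card_div {K M : Subgroup G} (h : K ≤ M) :
    K.relIndex M = Nat.card M / Nat.card K := by
  have h1 := (K.subgroupOf M).card_mul_index
  rw [Nat.card_congr (subgroupOfEquivOfLe h).toEquiv] at h1
  rw [← h1, Nat.mul_div_cancel_left _ Nat.card_pos]
  rfl

theorem index_eq_card_div (M : Subgroup G) : M.index = Nat.card G / Nat.card M := by
  rw [← M.card_mul_index, Nat.mul_div_cancel_left _ Nat.card_pos]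

/-- Between two normal subgroups of a solvable group there is a normal step of prime power index. -/
theorem exists_normal_step [Group.IsSolvable G] {M T : Subgroup G} [M.Normal] [T.Normal] (h : M < T) :
    ∃ (N : Subgroup G) (t k : ℕ), N.Normal ∧ t.Prime ∧ M < N ∧ N ≤ T ∧
      Nat.card N = Nat.card M * t ^ k := by
  set π := QuotientGroup.mk' M
  have hne : T.map π ≠ ⊥ := fun hb => by
    rw [Subgroup.map_eq_bot_iff, QuotientGroup.ker_mk'] at hb
    exact h.not_ge hb
  haveI : (T.map π).Normal := Subgroup.Normal.map inferInstance π (QuotientGroup.mk'_surjective M)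
  haveI : Group.IsSolvable (G ⧸ M) := Group.isSolvable_of_surjective (QuotientGroup.mk'_surjective M)
  obtain ⟨Nb, hNb, hNbT, hNb1, hmin⟩ := Cfsg.Lib.Solv.exists_minimal_normal_le hne
  haveI := hNb
  obtain ⟨-, t, ht, hNbp, -⟩ := Cfsg.Lib.Solv.minimal_normal_elementary hNb1 inferInstance hmin
  haveI := Fact.mk ht
  obtain ⟨k, hk⟩ := (IsPGroup.iff_card).1 hNbp
  have hker : π.ker = M := QuotientGroup.ker_mk' M
  have hMN : M ≤ Nb.comap π := fun x hx => by
    rw [mem_comap, show π x = 1 from (QuotientGroup.eq_one_iff x).2 hx]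
    exact Nb.one_mem
  refine ⟨Nb.comap π, t, k, inferInstance, ht, lt_of_le_of_ne hMN fun he => hNb1 ?_, ?_, ?_⟩
  · rw [← map_comap_eq_self_of_surjective (QuotientGroup.mk'_surjective M) Nb, ← he, Subgroup.map_eq_bot_iff,
      hker]
  · intro x hx
    obtain ⟨y, hy, he⟩ := hNbT hx
    have h1 : y⁻¹ * x ∈ M := (QuotientGroup.eq).1 he
    simpa using T.mul_mem hy (h.le h1)
  · have h1 := (Nb.comap π).card_mul_index
    rw [index_comap_of_surjective _ (QuotientGroup.mk'_surjective M), ← M.card_mul_index,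
      index_eq_card M, ← Nb.card_mul_index, hk, ← mul_assoc] at h1
    exact Nat.eq_of_mul_eq_mul_right (Nat.pos_of_ne_zero Nb.index_ne_zero_of_finite) h1

/-- In a solvable group three primes are not pairwise non-adjacent. -/
theorem exists_orderOf_mul_of_solvable [Group.IsSolvable G] {s : Finset ℕ} (hs : s.card = 3)
    (hp : ∀ p ∈ s, p.Prime ∧ p ∣ Nat.card G) :
    ∃ p ∈ s, ∃ q ∈ s, p ≠ q ∧ ∃ x : G, orderOf x = p * q := by
  have hmax : ∀ (T : Subgroup G) [T.Normal] (d : Finset ℕ), d.Nonempty →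
      (∀ p ∈ d, p.Prime ∧ p ∣ Nat.card T) → ∃ (M : Subgroup G) (t : ℕ), M.Normal ∧ M ≤ T ∧ t ∈ d ∧
        ¬ t ∣ Nat.card M ∧ ∀ p ∈ d, p ≠ t → p ∣ Nat.card M := by
    intro T _ d hd hdT
    obtain ⟨M, ⟨hMn, hMT, hMd⟩, hM⟩ := (Set.toFinite {M : Subgroup G | M.Normal ∧ M ≤ T ∧
      ¬ ∀ p ∈ d, p ∣ Nat.card M}).exists_maximal ⟨⊥, inferInstance, bot_le, fun h => by
        obtain ⟨p, hpd⟩ := hd
        exact (hdT p hpd).1.not_dvd_one (by simpa using h p hpd)⟩
    have hMlt : M < T := lt_of_le_of_ne hMT fun e => hMd fun p hp => e ▸ (hdT p hp).2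
    haveI := hMn
    obtain ⟨N, t, k, hN, ht, hMN, hNT, hcard⟩ := exists_normal_step hMlt
    have hall : ∀ p ∈ d, p ∣ Nat.card N := by
      by_contra h
      exact hMN.not_ge (hM ⟨hN, hNT, h⟩ hMN.le)
    push Not at hMd
    obtain ⟨u, hu, hud⟩ := hMd
    have huniq : ∀ p ∈ d, ¬ p ∣ Nat.card M → p = t := by
      intro p hp hpM
      have h := hall p hp
      rw [hcard] at h
      exact (Nat.prime_dvd_prime_iff_eq (hdT p hp).1 ht).1
        ((hdT p hp).1.dvd_of_dvd_pow (((hdT p hp).1.dvd_mul.1 h).resolve_left hpM))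
    obtain rfl := huniq u hu hud
    exact ⟨M, u, hMn, hMT, hu, hud, fun p hp hne => by_contra fun h => hne (huniq p hp h)⟩
  obtain ⟨M, r, hMn, -, hr, hrM, hrest⟩ := hmax ⊤ s (Finset.card_pos.1 (by omega))
    (fun p h => ⟨(hp p h).1, by rw [card_top]; exact (hp p h).2⟩)
  haveI := hMn
  obtain ⟨K, q, hKn, hKM, hq, hqK, hrest'⟩ := hmax M (s.erase r) (Finset.card_pos.1 (by
    rw [Finset.card_erase_of_mem hr]; omega))
    (fun p h => ⟨(hp p (Finset.mem_of_mem_erase h)).1,
      hrest p (Finset.mem_of_mem_erase h) (Finset.ne_of_mem_erase h)⟩)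
  haveI := hKn
  obtain ⟨p, hpe⟩ := Finset.card_pos.1 (show 0 < ((s.erase r).erase q).card by
    rw [Finset.card_erase_of_mem hq, Finset.card_erase_of_mem hr]; omega)
  have hpr : p ∈ s.erase r := Finset.mem_of_mem_erase hpe
  have hps := Finset.mem_of_mem_erase hpr
  have hqs := Finset.mem_of_mem_erase hq
  have hqM : q ∣ K.relIndex M := by
    have h := hrest q hqs (Finset.ne_of_mem_erase hq)
    rw [← (K.subgroupOf M).card_mul_index, Nat.card_congr (subgroupOfEquivOfLe hKM).toEquiv] at h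
    exact ((hp q hqs).1.dvd_mul.1 h).resolve_left hqK
  have hrG : r ∣ M.index := by
    have h := (hp r hr).2
    rw [← M.card_mul_index] at h
    exact ((hp r hr).1.dvd_mul.1 h).resolve_left hrM
  rcases exists_orderOf_of_layers K M hKM p q r (hp p hps).1 (hp q hqs).1 (hp r hr).1
    (Finset.ne_of_mem_erase hpe) (Finset.ne_of_mem_erase hpr) (Finset.ne_of_mem_erase hq)
    (hrest' p hpr (Finset.ne_of_mem_erase hpe)) hqM hrG with h | h | h
  · exact ⟨p, hps, q, hqs, Finset.ne_of_mem_erase hpe, h⟩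
  · exact ⟨p, hps, r, hr, Finset.ne_of_mem_erase hpr, h⟩
  · exact ⟨q, hqs, r, hr, Finset.ne_of_mem_erase hq, h⟩

end Cfsg.Lib.Recog
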