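import Mathlib
import Cfsg.Agent.Lib.Recog.Affine

/-!
# Few classes of derangements
-/

set_option autoImplicit false
set_option linter.style.haveILetI false

namespace Cfsg.Lib.Recog

open MulAction

universe u v

variable {G : Type u} [Group G] [Finite G] {Ω : Type v} [Finite Ω] [MulAction G Ω]

/-- Three pairwise non-conjugate derangements give three derangement classes. -/
theorem conj_of_classes_le_two
    (hle : Nat.card {c : ConjClasses G // ∃ g : G, ConjClasses.mk g = c ∧ ∀ ω : Ω, g • ω ≠ ω} ≤ 2)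
    {a b c : G} (ha : ∀ ω : Ω, a • ω ≠ ω) (hb : ∀ ω : Ω, b • ω ≠ ω) (hc : ∀ ω : Ω, c • ω ≠ ω) :
    IsConj a b ∨ IsConj a c ∨ IsConj b c := by
  classical
  by_contra hcon
  push Not at hcon
  obtain ⟨hab, hac, hbc⟩ := hcon
  haveI := Fintype.ofFinite {c : ConjClasses G // ∃ g : G, ConjClasses.mk g = c ∧ ∀ ω : Ω, g • ω ≠ ω}
  let C := {c : ConjClasses G // ∃ g : G, ConjClasses.mk g = c ∧ ∀ ω : Ω, g • ω ≠ ω}
  have h3 : ({⟨ConjClasses.mk a, a, rfl, ha⟩, ⟨ConjClasses.mk b, b, rfl, hb⟩,
      ⟨ConjClasses.mk c, c, rfl, hc⟩} : Finset C).card = 3 :=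
    Finset.card_eq_three.mpr ⟨_, _, _,
      fun e => hab (ConjClasses.mk_eq_mk_iff_isConj.mp (congrArg Subtype.val e)),
      fun e => hac (ConjClasses.mk_eq_mk_iff_isConj.mp (congrArg Subtype.val e)),
      fun e => hbc (ConjClasses.mk_eq_mk_iff_isConj.mp (congrArg Subtype.val e)), rfl⟩
  have h4 := Finset.card_le_univ ({⟨ConjClasses.mk a, a, rfl, ha⟩, ⟨ConjClasses.mk b, b, rfl, hb⟩,
      ⟨ConjClasses.mk c, c, rfl, hc⟩} : Finset C)
  rw [h3, ← Nat.card_eq_fintype_card] at h4
  simp only [C] at h4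
  omega

variable {N : Subgroup G} [hN : N.Normal] [hc : IsMulCommutative N] [hNt : IsPretransitive N Ω]

/-- Without two-point stabilisers a class inside `N` has the size of a point stabiliser. -/
theorem ncard_carrier (hreg : ∀ a : Ω, stabilizer N a = ⊥)
    (hfree : ∀ g : G, g ≠ 1 → ∀ a b : Ω, a ≠ b → g • a = a → g • b ≠ b) (α : Ω) {m : G}
    (hm : m ∈ N) (hm1 : m ≠ 1) :
    (ConjClasses.mk m).carrier.ncard = Nat.card (stabilizer G α) := by
  rw [← Nat.card_coe_set_eq]
  symm
  refine Nat.card_eq_of_bijective (fun h => ⟨(h : G) * m * (h : G)⁻¹, ?_⟩) ⟨?_, ?_⟩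
  · exact ConjClasses.mem_carrier_iff_mk_eq.mpr
      (ConjClasses.mk_eq_mk_iff_isConj.mpr (isConj_iff.mpr ⟨(h : G), rfl⟩).symm)
  · rintro ⟨x, hx⟩ ⟨y, hy⟩ he
    have he' : x * m * x⁻¹ = y * m * y⁻¹ := congrArg Subtype.val he
    have hz : y⁻¹ * x * m = m * (y⁻¹ * x) := by
      calc y⁻¹ * x * m = y⁻¹ * (x * m * x⁻¹) * x := by group
        _ = _ := by rw [he']; group
    refine Subtype.ext ?_
    by_contra hne
    refine hfree _ (fun e => hne (inv_mul_eq_one.mp e).symm) α (m • α)
      (derangement_of_regular hreg hm hm1 α).symm ?_ ?_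
    · exact (stabilizer G α).mul_mem ((stabilizer G α).inv_mem hy) hx
    · rw [← mul_smul, hz, mul_smul]
      exact congrArg (m • ·) ((stabilizer G α).mul_mem ((stabilizer G α).inv_mem hy) hx)
  · rintro ⟨z, hz⟩
    obtain ⟨g, hg⟩ := isConj_iff.mp
      (ConjClasses.mk_eq_mk_iff_isConj.mp (ConjClasses.mem_carrier_iff_mk_eq.mp hz)).symm
    obtain ⟨⟨u, hu⟩, hua⟩ := MulAction.exists_smul_eq N α (g⁻¹ • α)
    change u • α = g⁻¹ • α at hua
    refine ⟨⟨g * u, by rw [mem_stabilizer_iff, mul_smul, hua, smul_inv_smul]⟩, Subtype.ext ?_⟩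
    have hum : u * m = m * u := congrArg Subtype.val (mul_comm' (⟨u, hu⟩ : N) ⟨m, hm⟩)
    show g * u * m * (g * u)⁻¹ = z
    rw [mul_assoc g u m, hum, ← hg]
    group

omit hN hc hNt in
/-- A sharply doubly transitive group has a single class of derangements. -/
theorem derangements_conj_of_sharply (hΩ : 2 ≤ Nat.card Ω) (h2 : IsMultiplyPretransitive G Ω 2)
    (hfree : ∀ g : G, g ≠ 1 → ∀ a b : Ω, a ≠ b → g • a = a → g • b ≠ b) :
    (∃ g : G, ∀ ω : Ω, g • ω ≠ ω) ∧
      ∀ g g' : G, (∀ ω : Ω, g • ω ≠ ω) → (∀ ω : Ω, g' • ω ≠ ω) → IsConj g g' := by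
  classical
  haveI := Fintype.ofFinite G
  haveI := Fintype.ofFinite Ω
  haveI : IsPretransitive G Ω := isPretransitive_of_is_two_pretransitive
  have hnt : Nontrivial Ω := Finite.one_lt_card_iff_nontrivial.mp hΩ
  obtain ⟨a, b, hab⟩ := hnt
  set n := Nat.card Ω with hn
  have hG : Nat.card G = n * (n - 1) := by
    have e : G ≃ {p : Ω × Ω // p.1 ≠ p.2} := Equiv.ofBijective
      (fun g => ⟨(g • a, g • b), fun e => hab (MulAction.injective g e)⟩) ⟨?_, ?_⟩
    · rw [Nat.card_congr e, Nat.card_eq_fintype_card, Fintype.card_subtype]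
      have h : (Finset.univ.filter fun p : Ω × Ω => p.1 ≠ p.2) = Finset.univ.offDiag := by
        ext p; simp
      rw [h, Finset.offDiag_card, Finset.card_univ, hn, Nat.card_eq_fintype_card, Nat.mul_sub_one]
    · intro g g' h
      have h' := congrArg Subtype.val h
      simp only [Prod.mk.injEq] at h'
      by_contra hne
      exact hfree (g'⁻¹ * g) (fun e => hne (inv_mul_eq_one.mp e).symm) a b hab
        (by rw [mul_smul, h'.1, inv_smul_smul]) (by rw [mul_smul, h'.2, inv_smul_smul])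
    · rintro ⟨⟨c, d⟩, hcd⟩
      obtain ⟨g, hg⟩ := is_two_pretransitive_iff.mp h2 hab hcd
      exact ⟨g, Subtype.ext (Prod.ext hg.1 hg.2)⟩
  set D := Finset.univ.filter fun g : G => ∀ ω : Ω, g • ω ≠ ω with hD
  have hDn : D.card = n - 1 := by
    have hb := sum_card_fixedBy_eq_card_orbits_mul_card_group G Ω
    have ho : Fintype.card (Quotient (orbitRel G Ω)) = 1 := by
      haveI : Nonempty (Quotient (orbitRel G Ω)) := ⟨Quotient.mk _ a⟩
      refine Fintype.card_eq_one_iff.mpr ⟨Quotient.mk _ a, fun q => ?_⟩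
      induction q using Quotient.inductionOn with
      | _ x => exact Quotient.sound (exists_smul_eq G a x)
    have hone : ∀ g : G, g ≠ 1 → Fintype.card (fixedBy Ω g) =
        if ∀ ω : Ω, g • ω ≠ ω then 0 else 1 := by
      intro g hg
      split_ifs with h
      · exact Fintype.card_eq_zero_iff.mpr ⟨fun x => h x.1 x.2⟩
      · push Not at h
        obtain ⟨ω, hω⟩ := h
        refine Fintype.card_eq_one_iff.mpr ⟨⟨ω, hω⟩, fun x => Subtype.ext ?_⟩
        by_contra hne
        exact hfree g hg x.1 ω hne x.2 hω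
    rw [ho, one_mul, ← Finset.add_sum_erase _ _ (Finset.mem_univ (1 : G)),
      Finset.sum_congr rfl (fun g hg => hone g (Finset.ne_of_mem_erase hg))] at hb
    have hf1 : Fintype.card (fixedBy Ω (1 : G)) = n := by
      rw [hn, Nat.card_eq_fintype_card]
      exact Fintype.card_congr (Equiv.subtypeUnivEquiv fun x => one_smul G x)
    have hsub : D ⊆ Finset.univ.erase 1 := fun g hg => Finset.mem_erase.mpr
      ⟨fun e => (Finset.mem_filter.mp hg).2 a (by rw [e, one_smul]), Finset.mem_univ _⟩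
    rw [hf1, Finset.sum_ite, Finset.sum_const_zero, zero_add, Finset.sum_const, smul_eq_mul,
      mul_one, Finset.filter_not] at hb
    have hD' : (Finset.univ.erase (1 : G)).filter (fun g => ∀ ω : Ω, g • ω ≠ ω) = D := by
      ext g
      simp only [Finset.mem_filter, hD]
      exact ⟨fun h => ⟨Finset.mem_univ _, h.2⟩, fun h => ⟨hsub (by rw [hD]; simpa using h.2), h.2⟩⟩
    rw [hD', Finset.card_sdiff_of_subset hsub, Finset.card_erase_of_mem (Finset.mem_univ _),
      Finset.card_univ] at hb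
    have h3 := Finset.card_le_card hsub
    rw [Finset.card_erase_of_mem (Finset.mem_univ _), Finset.card_univ] at h3
    have h4 : 0 < Fintype.card G := Fintype.card_pos
    omega
  refine ⟨?_, fun g g' hg hg' => ?_⟩
  · have : D.Nonempty := Finset.card_pos.mp (by omega)
    obtain ⟨g, hg⟩ := this
    exact ⟨g, (Finset.mem_filter.mp hg).2⟩
  have hcar : (ConjClasses.mk g).carrier ⊆ (D : Set G) := by
    intro x hx
    obtain ⟨k, rfl⟩ := isConj_iff.mp
      (ConjClasses.mk_eq_mk_iff_isConj.mp (ConjClasses.mem_carrier_iff_mk_eq.mp hx)).symm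
    simp only [hD, Finset.coe_filter, Finset.mem_univ, true_and, Set.mem_ofPred_eq]
    intro ω hω
    refine hg (k⁻¹ • ω) ?_
    rw [mul_smul, mul_smul] at hω
    exact eq_inv_smul_iff.mpr hω
  have hcent : Nat.card (stabilizer (ConjAct G) g) ≤ n := by
    refine Nat.card_le_card_of_injective (fun c => ConjAct.ofConjAct c.1 • a) fun c c' he => ?_
    by_contra hne
    set z := ConjAct.ofConjAct c'.1⁻¹ * ConjAct.ofConjAct c.1 with hz
    have hzg : z * g = g * z := by
      have h1 := (c'⁻¹ * c).2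
      rw [mem_stabilizer_iff, ConjAct.smul_def] at h1
      exact mul_inv_eq_iff_eq_mul.mp h1
    have hza : z • a = a := by
      rw [hz, mul_smul, ConjAct.ofConjAct_inv]
      exact inv_smul_eq_iff.mpr he.symm.symm
    refine hfree z (fun e => hne ?_) a (g • a) (hg a).symm hza ?_
    · apply Subtype.ext
      exact ConjAct.ofConjAct.injective (inv_mul_eq_one.mp (by rw [← ConjAct.ofConjAct_inv]; exact e)).symm
    · rw [← mul_smul, hzg, mul_smul, hza]
  have horb : (ConjClasses.mk g).carrier.ncard * Nat.card (stabilizer (ConjAct G) g) = Nat.card G := by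
    rw [← ConjAct.orbit_eq_carrier_conjClasses, ← MulAction.index_stabilizer, mul_comm,
      Subgroup.card_mul_index]
    rfl
  have hge : D.card ≤ (ConjClasses.mk g).carrier.ncard := by
    rw [hDn]
    by_contra hlt
    push Not at hlt
    have h1 : (ConjClasses.mk g).carrier.ncard * Nat.card (stabilizer (ConjAct G) g) < (n - 1) * n :=
      lt_of_le_of_lt (Nat.mul_le_mul_left _ hcent) (by
        exact Nat.mul_lt_mul_of_pos_right hlt (by omega))
    rw [horb, hG, mul_comm] at h1
    exact lt_irrefl _ h1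
  have heq : (ConjClasses.mk g).carrier = (D : Set G) :=
    Set.eq_of_subset_of_ncard_le hcar (by rw [Set.ncard_coe_finset]; exact hge)
  have hmem : g' ∈ (ConjClasses.mk g).carrier := by
    rw [heq]; simp [hD, hg']
  exact (ConjClasses.mk_eq_mk_iff_isConj.mp (ConjClasses.mem_carrier_iff_mk_eq.mp hmem)).symm

end Cfsg.Lib.Recog
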