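import Mathlib

/-! Normal subgroups of point stabilisers in primitive groups with primitive suborbits. -/

set_option autoImplicit false

open scoped Pointwise

namespace Cfsg.Lib.Recog.ExtremelyPrimitive

open MulAction

variable {G : Type*} [Group G] {Ω : Type*} [MulAction G Ω]

/-- A normal subgroup of a primitive group is trivial or transitive on the points. -/
theorem fixed_or_orbit_eq (hep : ∀ (α ω : Ω), IsPreprimitive (stabilizer G α) (orbit (stabilizer G α) ω))
    (a : Ω) (M : Subgroup G) (hMle : M ≤ stabilizer G a) (hMn : stabilizer G a ≤ Subgroup.normalizer (M : Set G))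
    (ω : Ω) : (∀ k ∈ M, k • ω = ω) ∨ orbit M ω = orbit (stabilizer G a) ω := by
  have hn : (M.subgroupOf (stabilizer G a)).Normal := (Subgroup.normal_subgroupOf_iff_le_normalizer hMle).mpr hMn
  have := hep a ω
  by_cases h : ∀ k ∈ M, k • ω = ω
  · exact Or.inl h
  refine Or.inr ?_
  have ht : IsPretransitive (M.subgroupOf (stabilizer G a)) (orbit (stabilizer G a) ω) := by
    refine IsQuasiPreprimitive.isPretransitive_of_normal (fun hf => h fun k hk => ?_)
    have h1 : (⟨ω, mem_orbit_self ω⟩ : orbit (stabilizer G a) ω) ∈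
        fixedPoints (M.subgroupOf (stabilizer G a)) (orbit (stabilizer G a) ω) := hf ▸ Set.mem_univ _
    exact congrArg Subtype.val (h1 ⟨⟨k, hMle hk⟩, hk⟩)
  refine Set.Subset.antisymm ?_ ?_
  · rintro _ ⟨k, rfl⟩
    exact ⟨⟨k, hMle k.2⟩, rfl⟩
  · intro x hx
    obtain ⟨k, hk⟩ := ht.exists_smul_eq ⟨ω, mem_orbit_self ω⟩ ⟨x, hx⟩
    exact ⟨⟨((k : stabilizer G a) : G), k.2⟩, congrArg Subtype.val hk⟩

theorem eq_bot_of_normal_le_stabilizer [FaithfulSMul G Ω] [IsPretransitive G Ω] {K : Subgroup G}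
    (hK : K.Normal) {a : Ω} (h : K ≤ stabilizer G a) : K = ⊥ := by
  rw [Subgroup.eq_bot_iff_forall]
  intro g hg
  refine FaithfulSMul.eq_of_smul_eq_smul fun ω : Ω => ?_
  obtain ⟨y, rfl⟩ := exists_smul_eq G a ω
  have := mem_stabilizer_iff.mp (h (hK.conj_mem g hg y⁻¹))
  rw [inv_inv, mul_smul, mul_smul, inv_smul_eq_iff] at this
  rw [this, one_smul]

theorem stabilizer_ne [FaithfulSMul G Ω] [hp : IsPreprimitive G Ω] (hH : ∀ x : Ω, stabilizer G x ≠ ⊥)
    {a b : Ω} (hab : a ≠ b) : stabilizer G a ≠ stabilizer G b := by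
  intro he
  have : Nontrivial Ω := ⟨a, b, hab⟩
  obtain ⟨x, hx⟩ := exists_smul_eq G a b
  have hma := IsPreprimitive.isCoatom_stabilizer_of_isPreprimitive (G := G) a
  have hxn : x ∈ Subgroup.normalizer (stabilizer G a : Set G) := by
    rw [Subgroup.mem_normalizer_iff]
    intro g
    conv_rhs => rw [he]
    simp only [mem_stabilizer_iff, ← hx, mul_smul, inv_smul_smul, smul_left_cancel_iff]
  have hxs : x ∉ stabilizer G a := fun h => hab (by rw [← hx]; exact (mem_stabilizer_iff.mp h).symm)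
  have htop : Subgroup.normalizer (stabilizer G a : Set G) = ⊤ :=
    hma.2 _ (SetLike.lt_iff_le_and_exists.mpr ⟨Subgroup.le_normalizer, x, hxn, hxs⟩)
  exact hH a (eq_bot_of_normal_le_stabilizer (Subgroup.normalizer_eq_top_iff.mp htop) le_rfl)

/-- The stabiliser of a point acts faithfully on each non-trivial suborbit. -/
theorem faithful_suborbit [Finite G] [Finite Ω] [FaithfulSMul G Ω] [hp : IsPreprimitive G Ω]
    (hH : ∀ x : Ω, stabilizer G x ≠ ⊥)
    (hep : ∀ (α ω : Ω), IsPreprimitive (stabilizer G α) (orbit (stabilizer G α) ω))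
    {a w : Ω} (hw : w ≠ a) {g : G} (hga : g • a = a) (hg : ∀ x ∈ orbit (stabilizer G a) w, g • x = x) :
    g = 1 := by
  classical
  have : Nontrivial Ω := ⟨w, a, hw⟩
  let R : Ω → Ω → Prop := fun u v => ∃ x : G, x • a = u ∧ x • w = v
  have hR : ∀ (x : G) u v, R u v → R (x • u) (x • v) := fun x u v ⟨y, h1, h2⟩ =>
    ⟨x * y, by rw [mul_smul, h1], by rw [mul_smul, h2]⟩
  have hΓ : ∀ v, R a v ↔ v ∈ orbit (stabilizer G a) w := fun v =>
    ⟨fun ⟨x, h1, h2⟩ => ⟨⟨x, h1⟩, h2⟩, fun ⟨x, h⟩ => ⟨x, x.2, h⟩⟩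
  let K : Subgroup G :=
    { carrier := {x | x • a = a ∧ ∀ v, R a v → x • v = v}
      mul_mem' := fun {x y} hx hy => ⟨by rw [mul_smul, hy.1, hx.1], fun v hv => by rw [mul_smul, hy.2 v hv, hx.2 v hv]⟩
      one_mem' := ⟨one_smul _ _, fun v _ => one_smul _ _⟩
      inv_mem' := fun {x} hx => ⟨inv_smul_eq_iff.mpr hx.1.symm, fun v hv => inv_smul_eq_iff.mpr (hx.2 v hv).symm⟩ }
  have hgK : g ∈ K := ⟨hga, fun v hv => hg v ((hΓ v).mp hv)⟩
  suffices hK : K = ⊥ by rw [hK, Subgroup.mem_bot] at hgK; exact hgK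
  have hKle : K ≤ stabilizer G a := fun x hx => hx.1
  have hKn : stabilizer G a ≤ Subgroup.normalizer (K : Set G) := by
    intro x hx
    have hconj : ∀ (y : G), y • a = a → ∀ k ∈ K, y * k * y⁻¹ ∈ K := fun y hy k hk => by
      have hy' : y⁻¹ • a = a := inv_smul_eq_iff.mpr hy.symm
      refine ⟨by rw [mul_smul, mul_smul, hy', hk.1, hy], fun v hv => ?_⟩
      have h1 := hR y⁻¹ a v hv
      rw [hy'] at h1
      rw [mul_smul, mul_smul, hk.2 _ h1, smul_inv_smul]
    rw [Subgroup.mem_normalizer_iff]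
    refine fun k => ⟨hconj x hx k, fun h => ?_⟩
    have h' := hconj x⁻¹ (inv_smul_eq_iff.mpr (mem_stabilizer_iff.mp hx).symm) _ h
    rwa [show x⁻¹ * (x * k * x⁻¹) * x⁻¹⁻¹ = k by group] at h'
  by_contra hKne
  -- some element moves an out-neighbour of an out-neighbour
  obtain ⟨x₀, hx₀⟩ := exists_smul_eq G a w
  have hb : R a w := ⟨1, one_smul _ _, one_smul _ _⟩
  obtain ⟨b, c, hab, hbc, k, hk, hkc⟩ : ∃ b c, R a b ∧ R b c ∧ ∃ k ∈ K, k • c ≠ c := by
    by_contra hall
    push Not at hall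
    have hmap : K = K.map (MulAut.conj x₀).toMonoidHom := by
      refine Subgroup.eq_of_le_of_card_ge (fun y hy => ⟨x₀⁻¹ * y * x₀, ⟨?_, fun v hv => ?_⟩, ?_⟩) ?_
      · rw [mul_smul, mul_smul, hx₀, hy.2 w hb, ← hx₀, inv_smul_smul]
      · have h1 := hR x₀ a v hv
        rw [hx₀] at h1
        rw [mul_smul, mul_smul, hall w _ hb h1 y hy, inv_smul_smul]
      · simp only [MulEquiv.coe_toMonoidHom, MulAut.conj_apply]; group
      · exact (Subgroup.card_map_of_injective (f := (MulAut.conj x₀).toMonoidHom) (MulAut.conj x₀).injective).le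
    have hxn : x₀ ∈ Subgroup.normalizer (K : Set G) :=
      Subgroup.mem_normalizer_iff_map_conj_eq.mpr hmap.symm
    have hxs : x₀ ∉ stabilizer G a := fun h => hw (by rw [← hx₀]; exact h)
    have htop : Subgroup.normalizer (K : Set G) = ⊤ :=
      (IsPreprimitive.isCoatom_stabilizer_of_isPreprimitive (G := G) a).2 _
        (SetLike.lt_iff_le_and_exists.mpr ⟨hKn, x₀, hxn, hxs⟩)
    exact hKne (eq_bot_of_normal_le_stabilizer (Subgroup.normalizer_eq_top_iff.mp htop) hKle)
  have hca : c ≠ a := fun h => hkc (by rw [h, hk.1])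
  have hΔ : orbit K c = orbit (stabilizer G a) c := (fixed_or_orbit_eq hep a K hKle hKn c).resolve_left
    fun h => hkc (h k hk)
  -- all of the out-neighbours are in-neighbours of c
  have hall : ∀ v, R a v → R v c := by
    intro v hv
    obtain ⟨x, hx1, hx2⟩ := hab
    obtain ⟨y, hy1, hy2⟩ := hv
    set t := y * x⁻¹ with ht
    have hta : t • a = a := by rw [ht, mul_smul, inv_smul_eq_iff.mpr hx1.symm, hy1]
    have htb : t • b = v := by rw [ht, mul_smul, ← hx2, inv_smul_smul, hy2]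
    have h1 : t⁻¹ • c ∈ orbit (stabilizer G a) c := ⟨⟨t⁻¹, inv_smul_eq_iff.mpr hta.symm⟩, rfl⟩
    rw [← hΔ] at h1
    obtain ⟨u, hu⟩ := h1
    have h2 := hR (t * (u : G)) b c hbc
    rw [show (t * (u : G)) • b = v by rw [mul_smul t, u.2.2 b ⟨x, hx1, hx2⟩, htb],
      show (t * (u : G)) • c = c by rw [mul_smul t, show (u : G) • c = t⁻¹ • c from hu, smul_inv_smul]] at h2
    exact h2
  let Γ : Set Ω := {v | R a v}
  let Γ' : Set Ω := {v | R v c}
  have hcard : Γ.ncard = Γ'.ncard := by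
    have : Fintype Ω := Fintype.ofFinite Ω
    have hout : ∀ u, (Finset.univ.filter fun v => R u v).card = Γ.ncard := fun u => by
      obtain ⟨x, rfl⟩ := exists_smul_eq G a u
      rw [← Set.ncard_coe_finset, ← Set.ncard_image_of_injective Γ (MulAction.injective x)]
      congr 1
      ext v
      simp only [Finset.coe_filter, Finset.mem_univ, true_and, Set.mem_ofPred_eq, Set.mem_image, Γ]
      refine ⟨fun h => ⟨x⁻¹ • v, ?_, smul_inv_smul _ _⟩, fun ⟨w', h, e⟩ => e ▸ hR x _ _ h⟩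
      simpa using hR x⁻¹ _ _ h
    have hin : ∀ v, (Finset.univ.filter fun u => R u v).card = Γ'.ncard := fun v => by
      obtain ⟨x, rfl⟩ := exists_smul_eq G c v
      rw [← Set.ncard_coe_finset, ← Set.ncard_image_of_injective Γ' (MulAction.injective x)]
      congr 1
      ext u
      simp only [Finset.coe_filter, Finset.mem_univ, true_and, Set.mem_ofPred_eq, Set.mem_image, Γ']
      refine ⟨fun h => ⟨x⁻¹ • u, ?_, smul_inv_smul _ _⟩, fun ⟨w', h, e⟩ => e ▸ hR x _ _ h⟩
      simpa using hR x⁻¹ _ _ h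
    have h2 := Finset.sum_card_bipartiteAbove_eq_sum_card_bipartiteBelow (r := R)
      (s := (Finset.univ : Finset Ω)) (t := (Finset.univ : Finset Ω))
    simp only [Finset.bipartiteAbove, Finset.bipartiteBelow, hout, hin, Finset.sum_const, smul_eq_mul] at h2
    exact Nat.eq_of_mul_eq_mul_left (Finset.card_pos.mpr ⟨a, Finset.mem_univ a⟩) h2
  have hΓeq : Γ = Γ' := Set.eq_of_subset_of_ncard_le hall hcard.ge (Set.toFinite _)
  let S := stabilizer G Γ
  have hSa : stabilizer G a ≤ S := fun x hx => by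
    rw [mem_stabilizer_iff]
    ext v
    rw [Set.mem_smul_set_iff_inv_smul_mem]
    refine ⟨fun h => ?_, fun h => ?_⟩
    · have := hR x a _ h
      rwa [mem_stabilizer_iff.mp hx, smul_inv_smul] at this
    · have := hR x⁻¹ a v h
      rwa [inv_smul_eq_iff.mpr (mem_stabilizer_iff.mp hx).symm] at this
  have hSc : stabilizer G c ≤ S := fun x hx => by
    rw [mem_stabilizer_iff, hΓeq]
    ext v
    rw [Set.mem_smul_set_iff_inv_smul_mem]
    refine ⟨fun h => ?_, fun h => ?_⟩
    · have := hR x _ c h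
      rwa [mem_stabilizer_iff.mp hx, smul_inv_smul] at this
    · have := hR x⁻¹ v c h
      rwa [inv_smul_eq_iff.mpr (mem_stabilizer_iff.mp hx).symm] at this
  have hma := IsPreprimitive.isCoatom_stabilizer_of_isPreprimitive (G := G) a
  have hmc := IsPreprimitive.isCoatom_stabilizer_of_isPreprimitive (G := G) c
  have hne := stabilizer_ne hH hca
  have hStop : S = ⊤ := hma.2 _ (lt_of_le_of_ne hSa fun h => by
    rcases (h ▸ hSc : stabilizer G c ≤ stabilizer G a).eq_or_lt with h' | h'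
    · exact hne h'
    · exact hma.1 (hmc.2 _ h'))
  obtain ⟨z, hz⟩ := exists_smul_eq G w a
  have : a ∈ Γ := by
    have h1 : z • Γ = Γ := mem_stabilizer_iff.mp (show z ∈ S by rw [hStop]; exact Subgroup.mem_top z)
    rw [← h1, ← hz]
    exact Set.smul_mem_smul_set hb
  obtain ⟨x, hx1, hx2⟩ := this
  exact hw (MulAction.injective x (hx2.trans hx1.symm))

end Cfsg.Lib.Recog.ExtremelyPrimitive
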