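import Mathlib
import Cfsg.Agent.Lib.Classical.SLGroup
import Cfsg.Agent.Lib.Classical.LinearOrders

/-!
Simple groups of order `p (p + 1) (p - 1) / 2` with `p + 1` Sylow `p`-subgroups are `PSL(2, p)`,
when `(p - 1) / 2` is prime.
-/

set_option autoImplicit false

namespace Cfsg.Lib.Recog.SimplePSLTwo

open Matrix
open scoped MatrixGroups Pointwise

section PSLSide

variable {p : ℕ} [Fact p.Prime]

/-- The action of `SL(2,p)` on the projective line. -/
noncomputable def act : SL(2, ZMod p) →* Equiv.Perm (OnePoint (ZMod p)) :=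
  (MulAction.toPermHom (GL (Fin 2) (ZMod p)) (OnePoint (ZMod p))).comp Matrix.SpecialLinearGroup.toGL

theorem act_infty (g : SL(2, ZMod p)) :
    act g OnePoint.infty =
      if g.1 1 0 = 0 then OnePoint.infty else ((g.1 0 0 / g.1 1 0 : ZMod p) : OnePoint (ZMod p)) :=
  OnePoint.smul_infty_eq_ite (Matrix.SpecialLinearGroup.toGL g)

theorem act_coe (g : SL(2, ZMod p)) (x : ZMod p) :
    act g (x : OnePoint (ZMod p)) =
      if g.1 1 0 * x + g.1 1 1 = 0 then OnePoint.infty
      else (((g.1 0 0 * x + g.1 0 1) / (g.1 1 0 * x + g.1 1 1) : ZMod p) : OnePoint (ZMod p)) :=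
  OnePoint.smul_some_eq_ite (g := Matrix.SpecialLinearGroup.toGL g)

theorem mem_range_translate {σ : Equiv.Perm (OnePoint (ZMod p))} (h0 : σ OnePoint.infty = OnePoint.infty)
    (h : ∀ x : ZMod p, σ x = ((x + 1 : ZMod p) : OnePoint (ZMod p))) : σ ∈ (act (p := p)).range := by
  let g : SL(2, ZMod p) := ⟨!![1, 1; 0, 1], by simp [det_fin_two_of]⟩
  refine ⟨g, Equiv.ext fun y => ?_⟩
  cases y with
  | infty => rw [act_infty, h0, if_pos (by simp [g])]
  | coe x => rw [act_coe, h, if_neg (by simp [g])]; simp [g]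

theorem mem_range_dilate {σ : Equiv.Perm (OnePoint (ZMod p))} {r : ZMod p} (hr : IsSquare r) (hr0 : r ≠ 0)
    (h0 : σ OnePoint.infty = OnePoint.infty)
    (h : ∀ x : ZMod p, σ x = ((r * x : ZMod p) : OnePoint (ZMod p))) : σ ∈ (act (p := p)).range := by
  obtain ⟨s, rfl⟩ := hr
  have hs : s ≠ 0 := fun h => hr0 (by rw [h, mul_zero])
  let g : SL(2, ZMod p) := ⟨!![s, 0; 0, s⁻¹], by simp [det_fin_two_of, hs]⟩
  refine ⟨g, Equiv.ext fun y => ?_⟩
  cases y with
  | infty => rw [act_infty, h0, if_pos (by simp [g])]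
  | coe x =>
    rw [act_coe, h, if_neg (by simp [g, hs])]
    congr 1
    simp [g, field]

theorem mem_range_invert {σ : Equiv.Perm (OnePoint (ZMod p))} {a : ZMod p} (ha : IsSquare (-a)) (ha0 : a ≠ 0)
    (h0 : σ OnePoint.infty = ((0 : ZMod p) : OnePoint (ZMod p)))
    (h1 : σ ((0 : ZMod p) : OnePoint (ZMod p)) = OnePoint.infty)
    (h : ∀ x : ZMod p, x ≠ 0 → σ x = ((a / x : ZMod p) : OnePoint (ZMod p))) : σ ∈ (act (p := p)).range := by
  obtain ⟨s, hs⟩ := ha
  have hs0 : s ≠ 0 := fun h => ha0 (by rw [h, mul_zero, neg_eq_zero] at hs; exact hs)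
  let g : SL(2, ZMod p) := ⟨!![0, a / s; s⁻¹, 0], by rw [det_fin_two_of]; field_simp; linear_combination hs⟩
  refine ⟨g, Equiv.ext fun y => ?_⟩
  cases y with
  | infty => rw [act_infty, h0, if_neg (by simp [g, hs0])]; simp [g]
  | coe x =>
    rcases eq_or_ne x 0 with rfl | hx
    · rw [act_coe, h1, if_pos (by simp [g])]
    · rw [act_coe, h x hx, if_neg (by simp [g, hs0, hx])]
      congr 1
      simp [g, field]

theorem nonempty_equiv_of_range (h5 : 5 ≤ p) {G : Type*} [Group G] [Finite G]
    (σ : G →* Equiv.Perm (OnePoint (ZMod p))) (hσ : Function.Injective σ)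
    (hG : Nat.card G = Nat.card (Matrix.ProjectiveSpecialLinearGroup (Fin 2) (ZMod p)))
    (hr : ∀ g, σ g ∈ (act (p := p)).range) :
    Nonempty (G ≃* Matrix.ProjectiveSpecialLinearGroup (Fin 2) (ZMod p)) := by
  have hcast : ∀ m : ℕ, 0 < m → m < p → ((m : ℕ) : ZMod p) ≠ 0 := fun m hm hmp h =>
    absurd (Nat.le_of_dvd hm ((ZMod.natCast_eq_zero_iff m p).1 h)) (by omega)
  have hne : ∃ a : ZMod p, a ≠ 0 ∧ a ^ 2 ≠ 1 := by
    refine ⟨(2 : ℕ), hcast 2 two_pos (by omega), fun h => hcast 3 (by omega) (by omega) ?_⟩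
    push_cast at h ⊢
    linear_combination h
  haveI := Cfsg.Lib.Classical.SLGroup.isSimpleGroup_psl (F := ZMod p) (ι := Fin 2) (Or.inr hne)
  have hcen : Subgroup.center SL(2, ZMod p) ≤ (act (p := p)).ker := by
    intro z hz
    obtain ⟨r, hr, he⟩ := Matrix.SpecialLinearGroup.mem_center_iff.1 hz
    have hr0 : r ≠ 0 := by rintro rfl; simp at hr
    refine Equiv.ext fun y => ?_
    rw [Equiv.Perm.one_apply]
    cases y with
    | infty => rw [act_infty, if_pos (by rw [← he]; simp)]
    | coe x =>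
      rw [act_coe, ← he, if_neg (by simp [hr0])]
      congr 1
      simp [field]
  let f : Matrix.ProjectiveSpecialLinearGroup (Fin 2) (ZMod p) →* Equiv.Perm (OnePoint (ZMod p)) :=
    QuotientGroup.lift _ act hcen
  have hinj : Function.Injective f := by
    rw [← MonoidHom.ker_eq_bot_iff]
    refine (MonoidHom.normal_ker f).eq_bot_or_eq_top.resolve_right fun htop => ?_
    let t : SL(2, ZMod p) := ⟨!![1, 1; 0, 1], by simp [det_fin_two_of]⟩
    have h : act t = 1 := (MonoidHom.mem_ker).1 (htop ▸ Subgroup.mem_top (QuotientGroup.mk t) :)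
    have h2 := Equiv.congr_fun h ((0 : ZMod p) : OnePoint (ZMod p))
    rw [act_coe, if_neg (by simp [t])] at h2
    simp [t] at h2
  have hle : σ.range ≤ f.range := by
    rintro _ ⟨g, rfl⟩
    obtain ⟨m, hm⟩ := hr g
    exact ⟨QuotientGroup.mk m, hm⟩
  have heq : σ.range = f.range := Subgroup.eq_of_le_of_card_ge hle (le_of_eq (by
    rw [← Nat.card_congr (MonoidHom.ofInjective hinj).toEquiv, ← Nat.card_congr (MonoidHom.ofInjective hσ).toEquiv, hG]))
  exact ⟨(MonoidHom.ofInjective hσ).trans ((MulEquiv.subgroupCongr heq).trans (MonoidHom.ofInjective hinj).symm)⟩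

theorem card_psl (k : ℕ) (hk : 2 * k + 1 = p) :
    Nat.card (Matrix.ProjectiveSpecialLinearGroup (Fin 2) (ZMod p)) = p * (p + 1) * k := by
  have hk0 : 0 < k := by have := (Fact.out : p.Prime).two_le; omega
  have h1 := Cfsg.Lib.Classical.LinearOrders.card_psl_mul (F := ZMod p) (n := 2) (by norm_num)
  have h2 := Cfsg.Lib.Classical.LinearOrders.card_sl_mul (F := ZMod p) (n := 2) (by norm_num)
  rw [ZMod.card, Nat.gcd_eq_left ⟨k, by omega⟩] at h1
  rw [ZMod.card, ← h1, Fin.prod_univ_two] at h2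
  simp only [Fin.val_zero, Fin.val_one, pow_zero, pow_one] at h2
  have e1 : p ^ 2 - 1 = (p - 1) * (p + 1) := by rw [mul_comm, ← Nat.sq_sub_sq, one_pow]
  have e2 : p ^ 2 - p = (p - 1) * p := by rw [Nat.sub_mul, one_mul, pow_two]
  rw [e1, e2] at h2
  refine Nat.eq_of_mul_eq_mul_left (show 0 < (p - 1) * 2 by omega) ?_
  rw [mul_assoc (p - 1) 2, h2, show p - 1 = 2 * k by omega]
  ring

end PSLSide

/-- The recognition theorem. -/
theorem nonempty_equiv {G : Type*} [Group G] [Finite G] [IsSimpleGroup G] {p k : ℕ} [Fact p.Prime]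
    (hk : 2 * k + 1 = p) (hkp : k.Prime) (hk2 : k ≠ 2) (hG : Nat.card G = p * (p + 1) * k)
    (hkq : ¬ k ∣ p + 1)
    (hn : ∀ n : ℕ, n ∣ (p + 1) * k → n % p = 1 → n = 1 ∨ n = p + 1) :
    Nonempty (G ≃* Matrix.ProjectiveSpecialLinearGroup (Fin 2) (ZMod p)) := by
  classical
  have hp := (Fact.out : p.Prime)
  have hp5 : 5 ≤ p := by have := hkp.two_le; omega
  haveI : Fact k.Prime := ⟨hkp⟩
  have hkodd : Odd k := hkp.odd_of_ne_two hk2
  have hkdp : ¬ k ∣ p := fun h => by
    have := (Nat.prime_dvd_prime_iff_eq hkp hp).1 h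
    omega
  obtain ⟨P⟩ : Nonempty (Sylow p G) := inferInstance
  -- the Sylow subgroup
  have hPcard : Nat.card P = p := by
    obtain ⟨j, hj⟩ := IsPGroup.iff_card.1 P.isPGroup'
    have h1 := (P : Subgroup G).card_mul_index
    rw [hj, hG] at h1
    have hcopp : ¬ p ∣ (p + 1) * k := fun h => by
      rcases hp.dvd_mul.1 h with h | h
      · rw [Nat.dvd_add_right dvd_rfl] at h
        exact hp.not_dvd_one h
      · exact absurd (Nat.le_of_dvd hkp.pos h) (by omega)
    rcases j with _ | _ | j
    · exfalso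
      rw [pow_zero, one_mul] at h1
      refine P.not_dvd_index ?_
      rw [h1]
      exact (dvd_mul_right p (p + 1)).mul_right k
    · rw [hj, pow_one]
    · exfalso
      apply hcopp
      refine ⟨p ^ j * (P : Subgroup G).index, Nat.eq_of_mul_eq_mul_left hp.pos ?_⟩
      rw [← mul_assoc p (p + 1) k, ← h1]
      ring
  have hPidx : (P : Subgroup G).index = (p + 1) * k := by
    have h1 := (P : Subgroup G).card_mul_index
    rw [hPcard, hG, mul_assoc] at h1
    exact Nat.eq_of_mul_eq_mul_left hp.pos h1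
  have hn1 : Nat.card (Sylow p G) = p + 1 := by
    refine (hn _ (hPidx ▸ P.card_dvd_index) ?_).resolve_left fun h1 => ?_
    · have := card_sylow_modEq_one p G
      unfold Nat.ModEq at this
      rw [this, Nat.mod_eq_of_lt hp.one_lt]
    · haveI : Subsingleton (Sylow p G) := (Nat.card_eq_one_iff_unique.1 h1).1
      haveI := P.characteristic_of_subsingleton
      rcases (inferInstance : (P : Subgroup G).Normal).eq_bot_or_eq_top with h | h
      · rw [h, Subgroup.card_bot] at hPcard
        omega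
      · rw [h, Subgroup.card_top, hG] at hPcard
        nlinarith [hkp.two_le]
  obtain ⟨⟨t, htP⟩, ht⟩ := exists_prime_orderOf_dvd_card' (G := P) p (by rw [hPcard])
  rw [Subgroup.orderOf_mk] at ht
  have hPt : (P : Subgroup G) = Subgroup.zpowers t :=
    (Subgroup.eq_of_le_of_card_ge (Subgroup.zpowers_le.2 htP) (by rw [Nat.card_zpowers, ht, hPcard])).symm
  have htfix : t • P = P := Sylow.smul_eq_iff_mem_normalizer.2 (Subgroup.le_normalizer htP)
  have honly : ∀ R : Sylow p G, t • R = R → R = P := by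
    intro R hR
    have hN : t ∈ Subgroup.normalizer ((R : Subgroup G) : Set G) := Sylow.smul_eq_iff_mem_normalizer.1 hR
    have hsup : IsPGroup p ↥((R : Subgroup G) ⊔ (P : Subgroup G)) := by
      refine IsPGroup.to_sup_of_normal_left' R.isPGroup' P.isPGroup' ?_
      rw [hPt]
      exact Subgroup.zpowers_le.2 hN
    have h1 := R.is_maximal' hsup le_sup_left
    have h2 := P.is_maximal' hsup le_sup_right
    exact Sylow.ext (h1.symm.trans h2)
  haveI : Fintype (Sylow p G) := Fintype.ofFinite _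
  obtain ⟨Q, hQP⟩ := Fintype.exists_ne_of_one_lt_card
    (by rw [← Nat.card_eq_fintype_card, hn1]; omega) P
  haveI : NeZero p := ⟨hp.ne_zero⟩
  have hfree : ∀ i : ℕ, t ^ i • Q = Q → p ∣ i := by
    intro i hi
    by_contra hd
    obtain ⟨j, hj⟩ := exists_pow_eq_self_of_coprime (x := t) (n := i)
      (by rw [ht]; exact (hp.coprime_iff_not_dvd.2 hd).symm)
    have hmem : t ∈ MulAction.stabilizer G Q := hj ▸ Subgroup.pow_mem _ (show t ^ i ∈ MulAction.stabilizer G Q from hi) j
    exact hQP (honly Q hmem)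
  -- the labelling
  let L : OnePoint (ZMod p) → Sylow p G := fun x =>
    match x with
    | none => P
    | some i => t ^ i.val • Q
  have hLc : ∀ i : ZMod p, L (i : OnePoint (ZMod p)) = t ^ i.val • Q := fun i => rfl
  have hLi : L OnePoint.infty = P := rfl
  have hpow : ∀ a b : ℕ, a % p = b % p → t ^ a = t ^ b := fun a b h => by
    rw [← pow_mod_orderOf t a, ← pow_mod_orderOf t b, ht, h]
  have hnP : ∀ i : ℕ, t ^ i • Q ≠ P := fun i h => by
    have hmem : t ^ i ∈ MulAction.stabilizer G P :=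
      Subgroup.pow_mem _ (show t ∈ MulAction.stabilizer G P from htfix) i
    exact hQP (MulAction.injective (t ^ i) (h.trans hmem.symm))
  have hLinj : Function.Injective L := by
    rintro (_ | i) (_ | j) h
    · rfl
    · exact absurd h.symm (hnP _)
    · exact absurd h (hnP _)
    · have h' : t ^ i.val • Q = t ^ j.val • Q := h
      congr 1
      refine ZMod.val_injective p ?_
      rcases le_total i.val j.val with hle | hle
      · obtain ⟨d, hd⟩ := Nat.exists_eq_add_of_le hle
        rw [hd, pow_add, mul_smul] at h'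
        have := Nat.eq_zero_of_dvd_of_lt (hfree d (MulAction.injective _ h').symm) (by have := ZMod.val_lt j; omega)
        omega
      · obtain ⟨d, hd⟩ := Nat.exists_eq_add_of_le hle
        rw [hd, pow_add, mul_smul] at h'
        have := Nat.eq_zero_of_dvd_of_lt (hfree d (MulAction.injective _ h')) (by have := ZMod.val_lt i; omega)
        omega
  haveI : Fintype (OnePoint (ZMod p)) := inferInstanceAs (Fintype (Option (ZMod p)))
  have hLbij : Function.Bijective L := by
    refine (Nat.bijective_iff_injective_and_card L).2 ⟨hLinj, ?_⟩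
    rw [hn1]
    show Nat.card (Option (ZMod p)) = _
    rw [Nat.card_eq_fintype_card, Fintype.card_option, ZMod.card]
  let E := Equiv.ofBijective L hLbij
  let σ : G →* Equiv.Perm (OnePoint (ZMod p)) :=
    (E.symm.permCongrHom.toMonoidHom).comp (MulAction.toPermHom G (Sylow p G))
  have hσ : ∀ g x, L (σ g x) = g • L x := fun g x => E.apply_symm_apply _
  have hσt : ∀ x : ZMod p, σ t x = ((x + 1 : ZMod p) : OnePoint (ZMod p)) := by
    intro x
    refine hLinj ?_
    rw [hσ, hLc, hLc, ← mul_smul, ← pow_succ']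
    congr 1
    refine hpow _ _ ?_
    rw [ZMod.val_add, ZMod.val_one, Nat.mod_mod]
  have hσt0 : σ t OnePoint.infty = OnePoint.infty := hLinj (by rw [hσ, hLi]; exact htfix)
  have hσinj : Function.Injective σ := by
    rw [← MonoidHom.ker_eq_bot_iff]
    refine (MonoidHom.normal_ker σ).eq_bot_or_eq_top.resolve_right fun htop => ?_
    have h := Equiv.congr_fun (MonoidHom.mem_ker.1 (htop.ge (Subgroup.mem_top t))) ((0 : ZMod p) : OnePoint (ZMod p))
    rw [hσt] at h
    simp at h
  -- stabilizers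
  have hNcard : Nat.card (MulAction.stabilizer G P) = p * k := by
    have h1 := (MulAction.stabilizer G P).card_mul_index
    rw [MulAction.index_stabilizer_of_transitive, hn1, hG] at h1
    refine Nat.eq_of_mul_eq_mul_right (Nat.succ_pos p) (h1.trans (by rw [Nat.succ_eq_add_one]; ring))
  set H := MulAction.stabilizer G P ⊓ MulAction.stabilizer G Q with hH
  have hsplit : ∀ v ∈ MulAction.stabilizer G P, ∃ i : ℕ, (t ^ i)⁻¹ * v ∈ H := by
    intro v hv
    obtain ⟨x, hx⟩ := hLbij.2 (v • Q)
    cases x with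
    | infty =>
      exact absurd (MulAction.injective v (hx.symm.trans (hv : v • P = P).symm)) hQP
    | coe i =>
      refine ⟨i.val, Subgroup.mul_mem _ (Subgroup.inv_mem _ (Subgroup.pow_mem _ htfix _)) hv, ?_⟩
      show ((t ^ i.val)⁻¹ * v) • Q = Q
      rw [mul_smul, ← hx, hLc, inv_smul_smul]
  have hHcard : Nat.card H = k := by
    have e : Nat.card (MulAction.stabilizer G P) = p * Nat.card H := by
      have e0 : Nat.card (Fin p × H) = p * Nat.card H := by
        rw [Nat.card_prod, Nat.card_eq_fintype_card, Fintype.card_fin]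
      rw [← e0]
      refine (Nat.card_congr (Equiv.ofBijective (fun q : Fin p × H => (⟨t ^ (q.1 : ℕ) * q.2,
        Subgroup.mul_mem _ (Subgroup.pow_mem _ htfix _) q.2.2.1⟩ : MulAction.stabilizer G P)) ⟨?_, ?_⟩)).symm
      · rintro ⟨a, u, hu⟩ ⟨b, v, hv⟩ h
        have h : t ^ (a : ℕ) * u = t ^ (b : ℕ) * v := congrArg (fun z : MulAction.stabilizer G P => (z : G)) h
        have h2 : t ^ (a : ℕ) • Q = t ^ (b : ℕ) • Q := by
          have := congrArg (· • Q) h
          simp only [mul_smul] at this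
          rwa [show u • Q = Q from hu.2, show v • Q = Q from hv.2] at this
        have hab : ((a : ℕ) : ZMod p) = ((b : ℕ) : ZMod p) := by
          refine Option.some_injective _ (hLinj ?_)
          show t ^ (((a : ℕ) : ZMod p)).val • Q = t ^ (((b : ℕ) : ZMod p)).val • Q
          rw [ZMod.val_natCast, ZMod.val_natCast, Nat.mod_eq_of_lt a.2, Nat.mod_eq_of_lt b.2, h2]
        have hab' : a = b := Fin.ext (by
          have := congrArg ZMod.val hab
          rwa [ZMod.val_natCast, ZMod.val_natCast, Nat.mod_eq_of_lt a.2, Nat.mod_eq_of_lt b.2] at this)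
        subst hab'
        exact Prod.ext rfl (Subtype.ext (mul_left_cancel h))
      · rintro ⟨v, hv⟩
        obtain ⟨i, hi⟩ := hsplit v hv
        refine ⟨⟨⟨i % p, Nat.mod_lt _ hp.pos⟩, ⟨_, hi⟩⟩, Subtype.ext ?_⟩
        show t ^ (i % p) * ((t ^ i)⁻¹ * v) = v
        rw [hpow (i % p) i (Nat.mod_mod _ _), mul_inv_cancel_left]
    exact Nat.eq_of_mul_eq_mul_left hp.pos (e.symm.trans hNcard)
  -- elements of `H` are dilations by squares
  have hdil : ∀ h ∈ H, ∃ r : ZMod p, r ^ k = 1 ∧ σ h OnePoint.infty = OnePoint.infty ∧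
      ∀ x : ZMod p, σ h x = ((r * x : ZMod p) : OnePoint (ZMod p)) := by
    intro h hh
    have hn : h * t * h⁻¹ ∈ (P : Subgroup G) :=
      (Subgroup.mem_normalizer_iff.1 (Sylow.smul_eq_iff_mem_normalizer.1 hh.1) t).1 htP
    rw [hPt, ← mem_powers_iff_mem_zpowers] at hn
    obtain ⟨r, hr⟩ := hn
    have hr : t ^ r = h * t * h⁻¹ := hr
    have hlin : ∀ x : ZMod p, σ h x = (((r : ZMod p) * x : ZMod p) : OnePoint (ZMod p)) := by
      intro x
      refine hLinj ?_
      rw [hσ, hLc, hLc, ← mul_smul]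
      have e : h * t ^ x.val = t ^ (r * x.val) * h := by rw [pow_mul, hr, conj_pow, inv_mul_cancel_right]
      rw [e, mul_smul, show h • Q = Q from hh.2]
      congr 1
      refine hpow _ _ ?_
      rw [ZMod.val_mul, ZMod.val_natCast, Nat.mod_mod, Nat.mod_mul_mod]
    refine ⟨r, ?_, hLinj (by rw [hσ, hLi]; exact hh.1), hlin⟩
    have hiter : ∀ n : ℕ, σ (h ^ n) ((1 : ZMod p) : OnePoint (ZMod p)) = (((r : ZMod p) ^ n : ZMod p) : OnePoint (ZMod p)) := by
      intro n
      induction n with
      | zero => rw [pow_zero, map_one, pow_zero]; rfl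
      | succ n ih => rw [pow_succ', map_mul, Equiv.Perm.mul_apply, ih, hlin, pow_succ']
    have hhk : h ^ k = 1 := by
      have := congrArg Subtype.val (pow_card_eq_one' (x := (⟨h, hh⟩ : H)))
      rwa [hHcard] at this
    have h3 := hiter k
    rw [hhk, map_one, Equiv.Perm.one_apply, OnePoint.coe_eq_coe] at h3
    exact h3.symm
  choose! ρ hρ hρ0 hρx using hdil
  have hall : ∀ r : ZMod p, r ^ k = 1 → ∃ h ∈ H, ρ h = r := by
    let f : H → {r : ZMod p // r ^ k = 1} := fun h => ⟨ρ h, hρ h h.2⟩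
    have hf : Function.Injective f := by
      rintro ⟨a, ha⟩ ⟨b, hb⟩ h
      have h : ρ a = ρ b := congrArg Subtype.val h
      refine Subtype.ext (hσinj (Equiv.ext fun y => ?_))
      cases y with
      | infty => rw [hρ0 a ha, hρ0 b hb]
      | coe x => rw [hρx a ha, hρx b hb, h]
    have hle : Nat.card {r : ZMod p // r ^ k = 1} ≤ Nat.card H := by
      rw [hHcard]
      calc Nat.card {r : ZMod p // r ^ k = 1} ≤ Nat.card ↥(Polynomial.nthRootsFinset k (1 : ZMod p)) :=
            Nat.card_le_card_of_injective (fun r => ⟨r.1, (Polynomial.mem_nthRootsFinset hkp.pos _).2 r.2⟩)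
              (fun a b h => Subtype.ext (congrArg (fun z : ↥(Polynomial.nthRootsFinset k (1 : ZMod p)) => (z : ZMod p)) h))
        _ ≤ k := by
            rw [Nat.card_eq_fintype_card, Fintype.card_coe, Polynomial.nthRootsFinset_def]
            exact (Multiset.toFinset_card_le _).trans (Polynomial.card_nthRoots k 1)
    intro r hr
    obtain ⟨⟨h, hh⟩, e⟩ := (hf.bijective_of_nat_card_le hle).2 ⟨r, hr⟩
    exact ⟨h, hh, congrArg Subtype.val e⟩
  -- a swap of the two fixed points
  obtain ⟨g, hg⟩ := MulAction.exists_smul_eq G P Q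
  obtain ⟨v, hv, hvQ⟩ : ∃ v ∈ MulAction.stabilizer G P, v • Q = g⁻¹ • P := by
    obtain ⟨x, hx⟩ := hLbij.2 (g⁻¹ • P)
    cases x with
    | infty =>
      exfalso
      have : P = g⁻¹ • P := hx
      rw [eq_inv_smul_iff, hg] at this
      exact hQP this
    | coe i => exact ⟨t ^ i.val, Subgroup.pow_mem _ htfix _, hx⟩
  set w := g * v with hw
  have hwP : w • P = Q := by rw [hw, mul_smul, show v • P = P from hv, hg]
  have hwQ : w • Q = P := by rw [hw, mul_smul, hvQ, smul_inv_smul]
  have hLzero : L ((0 : ZMod p) : OnePoint (ZMod p)) = Q := by rw [hLc, ZMod.val_zero, pow_zero, one_smul]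
  have hw0 : σ w OnePoint.infty = ((0 : ZMod p) : OnePoint (ZMod p)) := hLinj (by rw [hσ, hLi, hwP, hLzero])
  have hw1 : σ w ((0 : ZMod p) : OnePoint (ZMod p)) = OnePoint.infty := hLinj (by rw [hσ, hLzero, hwQ, hLi])
  have hwH : ∀ h ∈ H, w * h * w⁻¹ ∈ H := by
    intro h hh
    constructor
    · show (w * h * w⁻¹) • P = P
      rw [mul_smul, mul_smul, show w⁻¹ • P = Q from inv_smul_eq_iff.2 hwQ.symm, show h • Q = Q from hh.2, hwQ]
    · show (w * h * w⁻¹) • Q = Q
      rw [mul_smul, mul_smul, show w⁻¹ • Q = P from inv_smul_eq_iff.2 hwP.symm, show h • P = P from hh.1, hwP]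
  have hw2 : w * w ∈ H :=
    ⟨show (w * w) • P = P by rw [mul_smul, hwP, hwQ], show (w * w) • Q = Q by rw [mul_smul, hwQ, hwP]⟩
  -- `w` inverts `H`
  obtain ⟨⟨h0, hh0⟩, hh0o⟩ := exists_prime_orderOf_dvd_card' (G := H) k (hHcard ▸ dvd_rfl)
  rw [Subgroup.orderOf_mk] at hh0o
  have hHz : H = Subgroup.zpowers h0 :=
    (Subgroup.eq_of_le_of_card_ge (Subgroup.zpowers_le.2 hh0) (by rw [Nat.card_zpowers, hh0o, hHcard])).symm
  have hHcomm : ∀ a ∈ H, ∀ b ∈ H, a * b = b * a := by
    intro a ha b hb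
    obtain ⟨i, rfl⟩ := Subgroup.mem_zpowers_iff.1 (hHz.le ha)
    obtain ⟨j, rfl⟩ := Subgroup.mem_zpowers_iff.1 (hHz.le hb)
    exact (Commute.zpow_zpow (Commute.refl h0) i j).eq
  have hinv : ∀ h ∈ H, w * h * w⁻¹ = h⁻¹ := by
    obtain ⟨j, hj⟩ := (mem_powers_iff_mem_zpowers).2 (hHz.le (hwH h0 hh0))
    have hj : h0 ^ j = w * h0 * w⁻¹ := hj
    have h2 : h0 ^ (j * j) = h0 := by
      rw [pow_mul, hj, conj_pow, hj]
      calc w * (w * h0 * w⁻¹) * w⁻¹ = (w * w) * h0 * (w * w)⁻¹ := by group
        _ = h0 := by rw [hHcomm _ hw2 _ hh0, mul_inv_cancel_right]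
    have hmod : ((j * j : ℕ) : ZMod k) = ((1 : ℕ) : ZMod k) := by
      rw [ZMod.natCast_eq_natCast_iff, ← hh0o, ← pow_eq_pow_iff_modEq, h2, pow_one]
    push_cast at hmod
    rcases mul_self_eq_one_iff.1 hmod with h1 | h1
    · exfalso
      -- then `w` centralizes `H` and `G` has a normal complement
      have hc0 : w * h0 * w⁻¹ = h0 := by
        rw [← hj]
        conv_rhs => rw [← pow_one h0]
        rw [pow_eq_pow_iff_modEq, hh0o, ← ZMod.natCast_eq_natCast_iff, h1, Nat.cast_one]
      have hHsyl : ¬ k ∣ H.index := by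
        intro hd
        have h1 := H.card_mul_index
        rw [hHcard, hG, mul_comm k] at h1
        have h2 : H.index = p * (p + 1) := Nat.eq_of_mul_eq_mul_right hkp.pos h1
        rw [h2] at hd
        rcases hkp.dvd_mul.1 hd with h | h
        · exact hkdp h
        · exact hkq h
      have hHk : IsPGroup k H := IsPGroup.of_card (n := 1) (by rw [hHcard, pow_one])
      set S := hHk.toSylow hHsyl with hSdef
      have hS : (S : Subgroup G) = H := rfl
      have hr1 : ρ h0 ≠ 1 := fun h => by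
        have h1' : σ h0 = 1 := Equiv.ext fun y => by
          cases y with
          | infty => rw [hρ0 h0 hh0]; rfl
          | coe x => rw [hρx h0 hh0, h, one_mul]; rfl
        have : h0 = 1 := hσinj (by rw [h1', map_one])
        rw [this, orderOf_one] at hh0o
        exact hkp.one_lt.ne hh0o
      have hfixed : ∀ R : Sylow p G, h0 • R = R → R = P ∨ R = Q := by
        intro R hR
        obtain ⟨x, rfl⟩ := hLbij.2 R
        cases x with
        | infty => exact Or.inl rfl
        | coe i =>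
          right
          have h' : σ h0 (i : OnePoint (ZMod p)) = (i : OnePoint (ZMod p)) := hLinj ((hσ h0 _).trans hR)
          rw [hρx h0 hh0, OnePoint.coe_eq_coe] at h'
          have hi : i = 0 := by
            by_contra hi
            exact hr1 (mul_right_cancel₀ hi (h'.trans (one_mul i).symm))
          rw [hi, hLzero]
      have hSc : Subgroup.normalizer ((S : Subgroup G) : Set G) ≤ Subgroup.centralizer ((S : Subgroup G) : Set G) := by
        rw [hS]
        intro n hn
        have hmap : ∀ R : Sylow p G, R = P ∨ R = Q → n • R = P ∨ n • R = Q := by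
          intro R hR
          refine hfixed _ ?_
          have hmem : n⁻¹ * h0 * n ∈ H := (Subgroup.mem_normalizer_iff''.1 hn h0).1 hh0
          have hfix : (n⁻¹ * h0 * n) • R = R := by
            rcases hR with rfl | rfl
            · exact hmem.1
            · exact hmem.2
          rw [← mul_smul]
          conv_rhs => rw [← hfix, ← mul_smul]
          congr 1
          group
        refine Subgroup.mem_centralizer_iff.2 fun a ha => ?_
        obtain ⟨u, hu, hn'⟩ : ∃ u ∈ H, n = u ∨ n = w * u := by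
          rcases hmap P (Or.inl rfl) with h | h
          · rcases hmap Q (Or.inr rfl) with h' | h'
            · exact absurd (MulAction.injective n (h'.trans h.symm)) hQP
            · exact ⟨n, ⟨h, h'⟩, Or.inl rfl⟩
          · rcases hmap Q (Or.inr rfl) with h' | h'
            · refine ⟨w⁻¹ * n, ⟨?_, ?_⟩, Or.inr (by group)⟩
              · show (w⁻¹ * n) • P = P
                rw [mul_smul, h, inv_smul_eq_iff, hwP]
              · show (w⁻¹ * n) • Q = Q
                rw [mul_smul, h', inv_smul_eq_iff, hwQ]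
            · exact absurd (MulAction.injective n (h'.trans h.symm)) hQP
        have hwa : w * a = a * w := by
          obtain ⟨i, rfl⟩ := Subgroup.mem_zpowers_iff.1 (hHz.le ha)
          exact ((show Commute w h0 from mul_inv_eq_iff_eq_mul.1 hc0).zpow_right i).eq
        rcases hn' with rfl | rfl
        · exact hHcomm a ha _ hu
        · exact ((show Commute w a from hwa).mul_left (show Commute u a from hHcomm u hu a ha)).eq.symm
      have hc := MonoidHom.ker_transferSylow_isComplement' S hSc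
      have hcm : Nat.card ↥(MonoidHom.transferSylow S hSc).ker * Nat.card H = Nat.card G := hc.card_mul
      rw [hHcard, hG] at hcm
      rcases (MonoidHom.normal_ker (MonoidHom.transferSylow S hSc)).eq_bot_or_eq_top with h | h
      · rw [h, Subgroup.card_bot, one_mul] at hcm
        have h6 : 6 ≤ p * (p + 1) := by nlinarith
        have := Nat.mul_le_mul_right k h6
        have := hkp.pos
        omega
      · rw [h, Subgroup.card_top, hG] at hcm
        have h6 : 0 < p * (p + 1) * k := Nat.mul_pos (Nat.mul_pos hp.pos (Nat.succ_pos p)) hkp.pos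
        have := (mul_eq_left₀ h6.ne').1 hcm
        exact hkp.one_lt.ne' this
    · intro h hh
      obtain ⟨i, rfl⟩ := Subgroup.mem_zpowers_iff.1 (hHz.le hh)
      rw [← conj_zpow, ← _root_.inv_zpow, ← hj]
      congr 1
      rw [eq_inv_iff_mul_eq_one, ← pow_succ, ← orderOf_dvd_iff_pow_eq_one, hh0o, ← ZMod.natCast_eq_zero_iff]
      push_cast
      rw [h1, neg_add_cancel]
  have hww : w * w = 1 := by
    have h1 : w * w = (w * w)⁻¹ := by
      rw [← hinv _ hw2]; group
    have h2 : (⟨w * w, hw2⟩ : H) ^ 2 = 1 := Subtype.ext (by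
      show (w * w) ^ 2 = 1
      rw [pow_two]; exact eq_inv_iff_mul_eq_one.1 h1)
    have h3 : orderOf (⟨w * w, hw2⟩ : H) = 1 := by
      refine Nat.eq_one_of_dvd_coprimes ?_ (orderOf_dvd_of_pow_eq_one h2) (hHcard ▸ orderOf_dvd_natCard _)
      exact Nat.coprime_two_left.2 hkodd
    exact congrArg Subtype.val (orderOf_eq_one_iff.1 h3)
  have hnofix : ∀ R : Sylow p G, w • R ≠ R := by
    intro R hR
    obtain ⟨g', rfl⟩ := MulAction.exists_smul_eq G P R
    have hm : g'⁻¹ * w * g' ∈ MulAction.stabilizer G P := by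
      show (g'⁻¹ * w * g') • P = P
      rw [mul_smul, mul_smul, hR, inv_smul_smul]
    have h2 : (⟨_, hm⟩ : MulAction.stabilizer G P) ^ 2 = 1 := Subtype.ext (by
      show (g'⁻¹ * w * g') ^ 2 = 1
      rw [pow_two]
      calc g'⁻¹ * w * g' * (g'⁻¹ * w * g') = g'⁻¹ * (w * w) * g' := by group
        _ = 1 := by rw [hww]; group)
    have h3 : orderOf (⟨_, hm⟩ : MulAction.stabilizer G P) = 1 := by
      refine Nat.eq_one_of_dvd_coprimes ?_ (orderOf_dvd_of_pow_eq_one h2) (hNcard ▸ orderOf_dvd_natCard _)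
      exact Nat.coprime_two_left.2 ((hp.odd_of_ne_two (by omega)).mul hkodd)
    have h4 : g'⁻¹ * w * g' = 1 := congrArg Subtype.val (orderOf_eq_one_iff.1 h3)
    have hw' : w = 1 := by
      calc w = g' * (g'⁻¹ * w * g') * g'⁻¹ := by group
        _ = 1 := by rw [h4]; group
    exact hQP (by rw [← hwP, hw', one_smul])
  -- `w` is `x ↦ a / x`
  obtain ⟨a, ha⟩ : ∃ a : ZMod p, σ w ((1 : ZMod p) : OnePoint (ZMod p)) = (a : OnePoint (ZMod p)) := by
    generalize hy : σ w ((1 : ZMod p) : OnePoint (ZMod p)) = y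
    cases y with
    | infty =>
      rw [← hw1] at hy
      exact absurd (OnePoint.coe_eq_coe.1 ((σ w).injective hy)) one_ne_zero
    | coe a => exact ⟨a, rfl⟩
  have ha0 : a ≠ 0 := by
    rintro rfl
    rw [← hw0] at ha
    simp at ha
  have hsqc : ∀ x : ZMod p, x ^ k = 1 → σ w x = ((a / x : ZMod p) : OnePoint (ZMod p)) := by
    intro x hx
    obtain ⟨h, hh, rfl⟩ := hall x hx
    have h1 : σ h ((1 : ZMod p) : OnePoint (ZMod p)) = ((ρ h : ZMod p) : OnePoint (ZMod p)) := by
      rw [hρx h hh, mul_one]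
    rw [← h1, ← Equiv.Perm.mul_apply, ← map_mul, show w * h = h⁻¹ * w by rw [← hinv h hh]; group,
      map_mul, Equiv.Perm.mul_apply, ha, map_inv, Equiv.Perm.inv_def, Equiv.symm_apply_eq, hρx h hh]
    rw [mul_div_cancel₀ a (fun h0 => by rw [h0, zero_pow hkp.ne_zero] at hx; exact zero_ne_one hx)]
  have hfermat : ∀ x : ZMod p, x ≠ 0 → x ^ k = 1 ∨ x ^ k = -1 := fun x hx => by
    refine sq_eq_one_iff.1 ?_
    rw [← pow_mul, show k * 2 = p - 1 by omega, ZMod.pow_card_sub_one_eq_one hx]
  have hak : a ^ k = -1 := by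
    refine (hfermat a ha0).resolve_left fun h1 => ?_
    obtain ⟨m, hm⟩ := hkodd
    set r := a ^ (m + 1) with hr
    have hrk : r ^ k = 1 := by rw [hr, ← pow_mul, mul_comm, pow_mul, h1, one_pow]
    have hr2 : r * r = a := by
      rw [hr, ← pow_add, show m + 1 + (m + 1) = k + 1 by omega, pow_succ, h1, one_mul]
    refine hnofix (L (r : OnePoint (ZMod p))) ?_
    have e1 := hσ w (r : OnePoint (ZMod p))
    refine e1.symm.trans ?_
    have hr0 : r ≠ 0 := fun h0 => ha0 (by rw [← hr2, h0, mul_zero])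
    rw [hsqc r hrk, show a / r = r by rw [div_eq_iff hr0, hr2]]
  have hswap : ∀ x : ZMod p, x ≠ 0 → σ w x = ((a / x : ZMod p) : OnePoint (ZMod p)) := by
    intro x hx
    rcases hfermat x hx with h1 | h1
    · exact hsqc x h1
    · have hy : (a / x) ^ k = 1 := by
        rw [div_pow, hak, h1, div_self]
        exact neg_ne_zero.2 one_ne_zero
      have h2 := hsqc _ hy
      rw [div_div_eq_mul_div, mul_div_cancel_left₀ x ha0] at h2
      conv_lhs => rw [← h2, ← Equiv.Perm.mul_apply, ← map_mul, hww, map_one, Equiv.Perm.one_apply]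
  refine nonempty_equiv_of_range hp5 σ hσinj (by rw [hG, card_psl k hk]) fun g => ?_
  have hT : σ t ∈ (act (p := p)).range := mem_range_translate hσt0 hσt
  have hW : σ w ∈ (act (p := p)).range := by
    refine mem_range_invert ?_ ha0 hw0 hw1 hswap
    rw [ZMod.euler_criterion p (neg_ne_zero.2 ha0), show p / 2 = k by omega, hkodd.neg_pow, hak, neg_neg]
  have hHr : ∀ h ∈ H, σ h ∈ (act (p := p)).range := by
    intro h hh
    have hr0 : ρ h ≠ 0 := fun h0 => by
      have := hρ h hh
      rw [h0, zero_pow hkp.ne_zero] at this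
      exact zero_ne_one this
    refine mem_range_dilate ?_ hr0 (hρ0 h hh) (hρx h hh)
    rw [ZMod.euler_criterion p hr0, show p / 2 = k by omega, hρ h hh]
  have hNr : ∀ v ∈ MulAction.stabilizer G P, σ v ∈ (act (p := p)).range := by
    intro v hv
    obtain ⟨i, hi⟩ := hsplit v hv
    rw [show v = t ^ i * ((t ^ i)⁻¹ * v) by group, map_mul, map_pow]
    exact mul_mem (pow_mem hT i) (hHr _ hi)
  obtain ⟨x, hx⟩ := hLbij.2 (g • P)
  cases x with
  | infty => exact hNr g hx.symm
  | coe i =>
    have hm : (t ^ i.val * w)⁻¹ * g ∈ MulAction.stabilizer G P := by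
      show ((t ^ i.val * w)⁻¹ * g) • P = P
      rw [mul_smul, ← hx, inv_smul_eq_iff, mul_smul, hwP, hLc]
    rw [show g = t ^ i.val * w * ((t ^ i.val * w)⁻¹ * g) by group, map_mul, map_mul, map_pow]
    exact mul_mem (mul_mem (pow_mem hT _) hW) (hNr _ hm)

end Cfsg.Lib.Recog.SimplePSLTwo
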