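import Cfsg.Agent.Lib.Recog.Derangement
import Cfsg.Agent.Lib.Characters.Burnside
import Cfsg.Agent.Lib.Solv.RegularClasses

/-!
# Derangement classes of primitive groups
-/

set_option autoImplicit false
set_option linter.style.haveILetI false

namespace Cfsg.Lib.Recog

open Subgroup
open scoped Pointwise

universe u v

variable {G : Type u} [Group G] [Finite G] {Ω : Type v} [MulAction G Ω]

/-- `G` is almost simple. -/
def AlmostSimple (G : Type u) [Group G] : Prop :=
  ∃ T : Subgroup G, T.Normal ∧ IsSimpleGroup T ∧ ¬ IsMulCommutative T ∧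
    centralizer (T : Set G) = ⊥

/-- A subgroup normalised by a non-abelian minimal normal subgroup containing it is not solvable. -/
theorem not_solvable {N : Subgroup G} [N.Normal] (hN : N ≠ ⊥)
    (hmin : ∀ K : Subgroup G, K.Normal → K ≤ N → K = ⊥ ∨ K = N) (hna : ¬ IsMulCommutative N)
    {X : Subgroup G} (hXN : X ≤ N) (hX : X ≠ ⊥) (hXn : N ≤ normalizer (X : Set G)) :
    ¬ Group.IsSolvable X := by
  intro hs
  haveI : (X.subgroupOf N).Normal := ⟨fun x hx n => (mem_normalizer_iff.mp (hXn n.2) _).mp hx⟩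
  have hne : X.subgroupOf N ≠ ⊥ := fun e => hX (by
    rw [← map_subgroupOf_eq_of_le hXN, e, Subgroup.map_bot])
  obtain ⟨M, hM, hMX, hM1, hMmin⟩ := Solv.exists_minimal_normal_le hne
  haveI := hM
  haveI := hs
  have hsX : Group.IsSolvable (X.subgroupOf N) :=
    Group.isSolvable_of_surjective (f := (subgroupOfEquivOfLe hXN).symm.toMonoidHom)
      (subgroupOfEquivOfLe hXN).symm.surjective
  obtain ⟨-, p, hp, hMp, -⟩ :=
    Solv.minimal_normal_elementary hM1 (Solv.solvable_of_le hMX hsX) hMmin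
  haveI := Fact.mk hp
  obtain ⟨q, hq, hqp, x, hx, hxq⟩ := exists_prime_ne hN hmin hna (map_subtype_le M)
    (fun e => hM1 ((map_eq_bot_iff_of_injective _ N.subtype_injective).mp e))
    (fun n hn => mem_normalizer_iff.mpr fun y => ⟨by
        rintro ⟨s, hs, rfl⟩
        exact ⟨⟨n, hn⟩ * s * ⟨n, hn⟩⁻¹, hM.conj_mem s hs _, rfl⟩,
      by
        rintro ⟨s, hs, hs'⟩
        refine ⟨⟨n, hn⟩⁻¹ * s * ⟨n, hn⟩⁻¹⁻¹, hM.conj_mem s hs _, ?_⟩
        show n⁻¹ * (s : G) * n⁻¹⁻¹ = y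
        rw [show (s : G) = n * y * n⁻¹ from hs']
        group⟩) p
  obtain ⟨i, hi⟩ := IsPGroup.iff_orderOf.mp (hMp.map N.subtype) ⟨x, hx⟩
  rw [Subgroup.orderOf_mk, hxq] at hi
  exact hqp ((Nat.prime_dvd_prime_iff_eq hq hp).mp (hq.dvd_of_dvd_pow (dvd_of_eq hi)))

/-- A non-solvable group has elements of three different prime orders. -/
theorem exists_three_orders {X : Subgroup G} (hX : ¬ Group.IsSolvable X) :
    ∃ a b c, a ∈ X ∧ b ∈ X ∧ c ∈ X ∧ a ≠ 1 ∧ b ≠ 1 ∧ c ≠ 1 ∧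
      orderOf a ≠ orderOf b ∧ orderOf a ≠ orderOf c ∧ orderOf b ≠ orderOf c := by
  classical
  have h3 : 3 ≤ (Nat.card X).primeFactors.card := by
    by_contra hlt
    push Not at hlt
    obtain ⟨p, q, hp, hq, hsub⟩ : ∃ p q, p.Prime ∧ q.Prime ∧ (Nat.card X).primeFactors ⊆ {p, q} := by
      interval_cases hc : (Nat.card X).primeFactors.card
      · exact ⟨2, 3, Nat.prime_two, Nat.prime_three, by rw [Finset.card_eq_zero.mp hc]; simp⟩
      · obtain ⟨p, hp⟩ := Finset.card_eq_one.mp hc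
        have hpp := Nat.prime_of_mem_primeFactors (hp ▸ Finset.mem_singleton_self p)
        exact ⟨p, p, hpp, hpp, by rw [hp]; simp⟩
      · obtain ⟨p, q, -, hpq⟩ := Finset.card_eq_two.mp hc
        exact ⟨p, q,
          Nat.prime_of_mem_primeFactors (show p ∈ (Nat.card X).primeFactors by rw [hpq]; simp),
          Nat.prime_of_mem_primeFactors (show q ∈ (Nat.card X).primeFactors by rw [hpq]; simp),
          hpq.le⟩
    refine hX (Characters.isSolvable_of_card_eq_pow_mul_pow hp hq (Nat.card X) X rfl ?_)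
    by_cases hpq : p = q
    · subst hpq
      refine ⟨(Nat.card X).factorization p, 0, ?_⟩
      rw [pow_zero, mul_one]
      have h1 := Nat.eq_prime_pow_of_unique_prime_dvd (n := Nat.card X) (p := p) Nat.card_pos.ne'
        fun {d} hd hdd => by
          have := hsub (Nat.mem_primeFactors.mpr ⟨hd, hdd, Nat.card_pos.ne'⟩)
          simpa using this
      conv_lhs => rw [h1]
      congr 1
      conv_rhs => rw [h1]
      rw [Nat.factorization_pow_self hp]
    · refine ⟨(Nat.card X).factorization p, (Nat.card X).factorization q, ?_⟩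
      conv_lhs => rw [Nat.prod_primeFactors_pow_factorization (n := Nat.card X) Nat.card_pos.ne']
      rw [Finset.prod_subset hsub (fun r _ hr => by
        rw [Finsupp.notMem_support_iff.mp (by simpa using hr), pow_zero]),
        Finset.prod_pair hpq]
  obtain ⟨s, hs, hs3⟩ := Finset.exists_subset_card_eq h3
  obtain ⟨p, q, r, hpq, hpr, hqr, rfl⟩ := Finset.card_eq_three.mp hs3
  have hel : ∀ l ∈ ({p, q, r} : Finset ℕ), ∃ x ∈ X, x ≠ 1 ∧ orderOf x = l := by
    intro l hl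
    have hlp := Nat.prime_of_mem_primeFactors (hs hl)
    haveI := Fact.mk hlp
    obtain ⟨x, hx⟩ := exists_prime_orderOf_dvd_card' l (Nat.dvd_of_mem_primeFactors (hs hl))
    rw [← Subgroup.orderOf_coe] at hx
    exact ⟨x, x.2, fun e => hlp.one_lt.ne' (by rw [← hx, e, orderOf_one]), hx⟩
  obtain ⟨a, ha, ha1, hao⟩ := hel p (by simp)
  obtain ⟨b, hb, hb1, hbo⟩ := hel q (by simp)
  obtain ⟨c, hc, hc1, hco⟩ := hel r (by simp)
  exact ⟨a, b, c, ha, hb, hc, ha1, hb1, hc1, by omega, by omega, by omega⟩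

/-- The case distinction for primitive groups. -/
theorem socle_cases [FaithfulSMul G Ω] [Finite Ω] (hprim : MulAction.IsPreprimitive G Ω)
    (hΩ : 2 ≤ Nat.card Ω) :
    (∃ N : Subgroup G, N.Normal ∧ N ≠ ⊥ ∧ IsMulCommutative N ∧
      (∃ r : ℕ, r.Prime ∧ ∀ x ∈ N, x ^ r = 1) ∧ MulAction.IsPretransitive N Ω ∧
      ∀ a : Ω, MulAction.stabilizer N a = ⊥) ∨
    AlmostSimple G ∨
    (∃ X : Subgroup G, ¬ Group.IsSolvable X ∧ ∀ x ∈ X, x ≠ 1 → ∀ ω : Ω, x • ω ≠ ω) ∨
    (∃ (N T C : Subgroup G) (x : G), N.Normal ∧ T ≤ N ∧ C ≤ N ∧ N ≤ T ⊔ C ∧ T ⊓ C = ⊥ ∧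
      N ≤ normalizer (T : Set G) ∧ (∀ t ∈ T, ∀ c ∈ C, Commute t c) ∧ ¬ Group.IsSolvable C ∧ Subgroup.center C = ⊥ ∧
      x ∈ T ∧ ∀ c ∈ C, ∀ ω : Ω, (x * c) • ω ≠ ω) := by
  haveI : Nontrivial G := by
    haveI := hprim
    have h1 : Nontrivial Ω := Finite.one_lt_card_iff_nontrivial.mp (by omega)
    obtain ⟨a, b, hab⟩ := exists_pair_ne Ω
    obtain ⟨g, hg⟩ := MulAction.exists_smul_eq G a b
    exact ⟨⟨g, 1, fun e => hab (by rw [← hg, e, one_smul])⟩⟩
  obtain ⟨N, hNn, -, hN, hmin⟩ := Solv.exists_minimal_normal_le (G := G) (N := ⊤) top_ne_bot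
  haveI := hNn
  have htr := Solv.primitive_normal_pretransitive hprim N hN
  haveI := htr
  by_cases hna : IsMulCommutative N
  · obtain ⟨-, r, hr, -, hexp⟩ := Solv.minimal_normal_elementary hN
      (Group.isSolvable_of_comm fun a b => mul_comm' a b) hmin
    exact Or.inl ⟨N, hNn, hN, hna, ⟨r, hr, hexp⟩, htr, Solv.stabilizer_eq_bot_of_abelian N hna⟩
  by_cases hns : IsSimpleGroup N
  · by_cases hC : centralizer (N : Set G) = ⊥
    · exact Or.inr (Or.inl ⟨N, hNn, hns, hna, hC⟩)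
    · haveI := Solv.primitive_normal_pretransitive hprim (centralizer (N : Set G)) hC
      refine Or.inr (Or.inr (Or.inl ⟨N, not_solvable hN hmin hna le_rfl hN le_normalizer,
        fun x hx hx1 ω hω => hx1 ?_⟩))
      exact Solv.eq_one_of_fix_of_commute (centralizer (N : Set G))
        (mem_centralizer_iff.mpr fun y hy => (mem_centralizer_iff.mp hy x hx).symm) hω
  obtain ⟨T, C, hTN, hCN, hT1, hC1, hd, hsup, hTn, hCn, hcomm⟩ := exists_split hN hmin hna hns
  rcases derangement_dichotomy (Ω := Ω) hTN hCN hd hsup hTn hcomm with h | ⟨x, hx, -, h⟩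
  · exact Or.inr (Or.inr (Or.inl ⟨T, not_solvable hN hmin hna hTN hT1 hTn, h⟩))
  · refine Or.inr (Or.inr (Or.inr ⟨N, T, C, x, hNn, hTN, hCN, hsup, hd, hTn, hcomm,
      not_solvable hN hmin hna hCN hC1 hCn, ?_, hx, h⟩))
    by_contra hZ
    refine not_solvable hN hmin hna ((map_subtype_le (Subgroup.center C)).trans hCN)
      (fun e => hZ ((map_eq_bot_iff_of_injective _ C.subtype_injective).mp e)) (fun n hn => ?_)
      (Group.isSolvable_of_comm fun a b => ?_)
    · refine mem_normalizer_iff_map_conj_eq.mpr (eq_of_le_of_card_ge ?_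
        (card_map_of_injective (MulEquiv.injective _)).ge)
      rintro _ ⟨_, ⟨z, hz, rfl⟩, rfl⟩
      refine ⟨⟨n * z * n⁻¹, (mem_normalizer_iff.mp (hCn hn) z).mp z.2⟩,
        Subgroup.mem_center_iff.mpr fun w => Subtype.ext ?_, rfl⟩
      have h1 : n⁻¹ * (w : G) * n⁻¹⁻¹ ∈ C :=
        (mem_normalizer_iff.mp (inv_mem (hCn hn)) w).mp w.2
      have h2 : n⁻¹ * (w : G) * n⁻¹⁻¹ * z = z * (n⁻¹ * (w : G) * n⁻¹⁻¹) :=
        congrArg Subtype.val (Subgroup.mem_center_iff.mp hz ⟨_, h1⟩)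
      show (w : G) * (n * z * n⁻¹) = n * z * n⁻¹ * w
      calc (w : G) * (n * z * n⁻¹) = n * (n⁻¹ * (w : G) * n⁻¹⁻¹ * z) * n⁻¹ := by group
        _ = n * (z * (n⁻¹ * (w : G) * n⁻¹⁻¹)) * n⁻¹ := by rw [h2]
        _ = _ := by group
    · obtain ⟨_, a, ha, rfl⟩ := a
      obtain ⟨_, b, hb, rfl⟩ := b
      exact Subtype.ext (congrArg (C.subtype) (Subgroup.mem_center_iff.mp hb a))

/-- Some non-identity element of a non-solvable group has centraliser of another order. -/
theorem exists_centralizer_card_ne {X : Type u} [Group X] [Finite X] (hX : ¬ Group.IsSolvable X) :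
    ∀ K : ℕ, ∃ c : X, c ≠ 1 ∧ Nat.card {d : X // Commute d c} ≠ K := by
  classical
  intro K
  by_contra hcon
  push Not at hcon
  have hcenter : ∀ c : X, c ≠ 1 → c ∉ Subgroup.center X := by
    intro c hc hcc
    refine hX (Group.isSolvable_of_comm fun a b => ?_)
    by_cases hb : b = 1
    · simp [hb]
    have h1 : Nat.card {d : X // Commute d c} = Nat.card X :=
      Nat.card_congr (Equiv.subtypeUnivEquiv fun d => (Subgroup.mem_center_iff.mp hcc d))
    have h2 : Nat.card {d : X // Commute d b} = Nat.card X := by rw [hcon b hb, ← hcon c hc, h1]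
    have hinj : Function.Injective (Subtype.val : {d : X // Commute d b} → X) := Subtype.val_injective
    obtain ⟨⟨d, hd⟩, rfl⟩ := ((Nat.bijective_iff_injective_and_card _).mpr ⟨hinj, h2⟩).2 a
    exact hd.eq
  obtain ⟨c₀, hc₀⟩ : ∃ c : X, c ≠ 1 := by
    by_contra h
    push Not at h
    exact hX (Group.isSolvable_of_comm fun a b => by rw [h a, h b])
  have hK : ∀ c : X, c ≠ 1 → Nat.card (ConjClasses.mk c).carrier * K = Nat.card X := by
    intro c hc
    rw [← hcon c hc]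
    have h1 : Nat.card {d : X // Commute d c} = Nat.card (Subgroup.centralizer ({c} : Set X)) :=
      Nat.card_congr (Equiv.subtypeEquivRight fun d =>
        (Subgroup.mem_centralizer_singleton_iff).symm)
    rw [h1, Nat.card_coe_set_eq, Solv.carrier_ncard_eq_index]
    exact Subgroup.index_mul_card _
  have hKpos : 0 < K := by
    rw [← hcon c₀ hc₀]
    haveI : Nonempty {d : X // Commute d c₀} := ⟨⟨1, Commute.one_left c₀⟩⟩
    exact Nat.card_pos
  set s := Nat.card (ConjClasses.mk c₀).carrier with hs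
  have hs_all : ∀ x ∈ ConjClasses.noncenter X, Nat.card x.carrier = s := by
    intro x hx
    induction x using Quotient.ind with
    | _ c =>
      change ConjClasses.mk c ∈ ConjClasses.noncenter X at hx
      show Nat.card (ConjClasses.mk c).carrier = s
      have hc : c ≠ 1 := by
        rintro rfl
        rw [ConjClasses.mem_noncenter] at hx
        obtain ⟨a, ha, b, hb, hab⟩ := hx
        rw [ConjClasses.mem_carrier_iff_mk_eq, ConjClasses.mk_eq_mk_iff_isConj] at ha hb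
        exact hab ((isConj_one_right.mp ha.symm).trans (isConj_one_right.mp hb.symm).symm)
      exact Nat.eq_of_mul_eq_mul_right hKpos ((hK c hc).trans (hK c₀ hc₀).symm)
  have heq := Group.nat_card_center_add_sum_card_noncenter_eq_card X
  have hcard : Nat.card (Subgroup.center X) = 1 := Subgroup.card_eq_one.mpr
    ((Subgroup.eq_bot_iff_forall _).mpr fun c hc => by_contra fun h => hcenter c h hc)
  rw [hcard, finsum_mem_congr rfl hs_all] at heq
  have hdvd : s ∣ ∑ᶠ x ∈ ConjClasses.noncenter X, s := by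
    rw [finsum_mem_eq_sum _ (Set.toFinite _)]
    exact Finset.dvd_sum fun _ _ => dvd_rfl
  have hs1 : s ∣ 1 := (Nat.dvd_add_iff_left hdvd).mpr (heq ▸ ⟨K, (hK c₀ hc₀).symm⟩)
  refine hcenter c₀ hc₀ (Subgroup.mem_center_iff.mpr fun d => ?_)
  rw [Nat.dvd_one, hs, Nat.card_coe_set_eq, Set.ncard_eq_one] at hs1
  obtain ⟨e, he⟩ := hs1
  have h1 : c₀ ∈ ({e} : Set X) := he ▸ ConjClasses.mem_carrier_mk
  have h2 : d * c₀ * d⁻¹ ∈ ({e} : Set X) := by
    rw [← he, ConjClasses.mem_carrier_iff_mk_eq, ConjClasses.mk_eq_mk_iff_isConj]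
    exact (isConj_iff.mpr ⟨d, rfl⟩).symm
  rw [Set.mem_singleton_iff] at h1 h2
  exact mul_inv_eq_iff_eq_mul.mp (h2.trans h1.symm)

/-- With neither abelian socle nor almost simple, there are three classes of derangements. -/
theorem three_classes [FaithfulSMul G Ω] [Finite Ω] (hprim : MulAction.IsPreprimitive G Ω)
    (hΩ : 2 ≤ Nat.card Ω) (hnas : ¬ AlmostSimple G)
    (hle : Nat.card {c : ConjClasses G // ∃ g : G, ConjClasses.mk g = c ∧ ∀ ω : Ω, g • ω ≠ ω} ≤ 2) :
    ∃ N : Subgroup G, N.Normal ∧ N ≠ ⊥ ∧ IsMulCommutative N ∧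
      MulAction.IsPretransitive N Ω ∧ ∀ a : Ω, MulAction.stabilizer N a = ⊥ := by
  classical
  haveI := Fintype.ofFinite {c : ConjClasses G // ∃ g : G, ConjClasses.mk g = c ∧ ∀ ω : Ω, g • ω ≠ ω}
  have hthree : ∀ a b c : G, (∀ ω : Ω, a • ω ≠ ω) → (∀ ω : Ω, b • ω ≠ ω) → (∀ ω : Ω, c • ω ≠ ω) →
      ¬ IsConj a b → ¬ IsConj a c → ¬ IsConj b c → False := by
    intro a b c ha hb hc hab hac hbc
    have h3 : ({⟨ConjClasses.mk a, a, rfl, ha⟩, ⟨ConjClasses.mk b, b, rfl, hb⟩,
        ⟨ConjClasses.mk c, c, rfl, hc⟩} : Finset {c : ConjClasses G //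
          ∃ g : G, ConjClasses.mk g = c ∧ ∀ ω : Ω, g • ω ≠ ω}).card = 3 :=
      Finset.card_eq_three.mpr ⟨_, _, _,
        fun e => hab (ConjClasses.mk_eq_mk_iff_isConj.mp (congrArg Subtype.val e)),
        fun e => hac (ConjClasses.mk_eq_mk_iff_isConj.mp (congrArg Subtype.val e)),
        fun e => hbc (ConjClasses.mk_eq_mk_iff_isConj.mp (congrArg Subtype.val e)), rfl⟩
    have h4 := Finset.card_le_univ ({⟨ConjClasses.mk a, a, rfl, ha⟩, ⟨ConjClasses.mk b, b, rfl, hb⟩,
        ⟨ConjClasses.mk c, c, rfl, hc⟩} : Finset {c : ConjClasses G //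
          ∃ g : G, ConjClasses.mk g = c ∧ ∀ ω : Ω, g • ω ≠ ω})
    rw [h3, ← Nat.card_eq_fintype_card] at h4
    omega
  have horder : ∀ a b : G, IsConj a b → orderOf a = orderOf b := by
    intro a b h
    obtain ⟨g, rfl⟩ := isConj_iff.mp h
    exact (orderOf_injective (MulAut.conj g).toMonoidHom (MulEquiv.injective _) a).symm
  rcases socle_cases hprim hΩ with ⟨N, hN, hN1, hc, -, htr, hreg⟩ | h | ⟨X, hX, hder⟩ |
    ⟨N, T, C, x, hNn, hTN, hCN, hsup, hd, hTn, hcomm, hC, hZ, hx, hder⟩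
  · exact ⟨N, hN, hN1, hc, htr, hreg⟩
  · exact absurd h hnas
  · obtain ⟨a, b, c, ha, hb, hc, ha1, hb1, hc1, hab, hac, hbc⟩ := exists_three_orders hX
    exact (hthree a b c (hder a ha ha1) (hder b hb hb1) (hder c hc hc1)
      (fun h => hab (horder _ _ h)) (fun h => hac (horder _ _ h)) (fun h => hbc (horder _ _ h))).elim
  exfalso
  -- centralisers in `N` of the elements `x * c`
  have hdec : ∀ n ∈ N, ∃ t ∈ T, ∃ c ∈ C, t * c = n := by
    intro n hn
    have h1 : n ∈ ((T ⊔ C : Subgroup G) : Set G) := hsup hn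
    rw [coe_mul_of_right_le_normalizer_left T C (hCN.trans hTn)] at h1
    obtain ⟨t, ht, c, hc, h⟩ := h1
    exact ⟨t, ht, c, hc, h⟩
  have huniq : ∀ t ∈ T, ∀ t' ∈ T, ∀ c ∈ C, ∀ c' ∈ C, t * c = t' * c' → t = t' ∧ c = c' := by
    intro t ht t' ht' c hc c' hc' h
    have h1 : t'⁻¹ * t ∈ T ⊓ C := ⟨T.mul_mem (T.inv_mem ht') ht, by
      have : t'⁻¹ * t = c' * c⁻¹ := by
        calc t'⁻¹ * t = t'⁻¹ * (t * c) * c⁻¹ := by group
          _ = t'⁻¹ * (t' * c') * c⁻¹ := by rw [h]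
          _ = _ := by group
      rw [this]; exact C.mul_mem hc' (C.inv_mem hc)⟩
    rw [hd, mem_bot, inv_mul_eq_one] at h1
    subst h1
    exact ⟨rfl, mul_left_cancel h⟩
  let F : C → ℕ := fun c => Nat.card {n : N // Commute (n : G) (x * c)}
  have hF : ∀ c : C, F c =
      Nat.card {t : T // Commute (t : G) x} * Nat.card {d : C // Commute d c} := by
    intro c
    rw [← Nat.card_prod]
    symm
    refine Nat.card_eq_of_bijective (fun td => ⟨⟨(td.1.1 : G) * (td.2.1 : G),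
      N.mul_mem (hTN td.1.1.2) (hCN td.2.1.2)⟩, ?_⟩) ⟨?_, ?_⟩
    · exact (td.1.2.mul_left (hcomm x hx td.2.1 td.2.1.2).symm).mul_right
        ((hcomm td.1.1 td.1.1.2 c c.2).mul_left (td.2.2.map C.subtype))
    · rintro ⟨⟨t, ht⟩, ⟨d, hd1⟩⟩ ⟨⟨t', ht'⟩, ⟨d', hd2⟩⟩ h
      obtain ⟨h1, h2⟩ := huniq t t.2 t' t'.2 d d.2 d' d'.2
        (congrArg (fun z => ((z : {n : N // Commute (n : G) (x * c)}) : N).1) h)
      obtain rfl := Subtype.ext h1
      obtain rfl := Subtype.ext h2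
      rfl
    · rintro ⟨⟨n, hn⟩, hnc⟩
      obtain ⟨t, ht, d, hd', rfl⟩ := hdec n hn
      have he : t * x * (d * c) = x * t * (c * d) := by
        calc t * x * (d * c) = t * (x * d) * c := by group
          _ = t * (d * x) * c := by rw [(hcomm x hx d hd').eq]
          _ = (t * d) * (x * c) := by group
          _ = (x * c) * (t * d) := hnc
          _ = x * (c * t) * d := by group
          _ = x * (t * c) * d := by rw [(hcomm t ht c c.2).eq]
          _ = _ := by group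
      obtain ⟨h1, h2⟩ := huniq _ (T.mul_mem ht hx) _ (T.mul_mem hx ht) _ (C.mul_mem hd' c.2) _
        (C.mul_mem c.2 hd') he
      exact ⟨⟨⟨⟨t, ht⟩, h1⟩, ⟨⟨d, hd'⟩, Subtype.ext h2⟩⟩, rfl⟩
  have hTpos : 0 < Nat.card {t : T // Commute (t : G) x} := by
    haveI : Nonempty {t : T // Commute (t : G) x} := ⟨⟨1, Commute.one_left x⟩⟩
    exact Nat.card_pos
  have hconj : ∀ c d : C, IsConj (x * c) (x * d) →
      Nat.card {e : C // Commute e c} = Nat.card {e : C // Commute e d} := by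
    intro c d h
    refine Nat.eq_of_mul_eq_mul_left hTpos ?_
    rw [← hF, ← hF]
    obtain ⟨g, hg⟩ := isConj_iff.mp h
    refine Nat.card_eq_of_bijective (fun n => ⟨⟨g * (n.1 : G) * g⁻¹, hNn.conj_mem _ n.1.2 g⟩, ?_⟩)
      ⟨?_, ?_⟩
    · rw [← hg]; exact n.2.map (MulAut.conj g).toMonoidHom
    · intro m n h
      exact Subtype.ext (Subtype.ext (mul_left_cancel (mul_right_cancel
        (congrArg (fun z => ((z : {n : N // Commute (n : G) (x * d)}) : N).1) h))))
    · rintro ⟨⟨n, hn⟩, hnc⟩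
      refine ⟨⟨⟨g⁻¹ * n * g⁻¹⁻¹, hNn.conj_mem n hn g⁻¹⟩, ?_⟩,
        Subtype.ext (Subtype.ext (by group))⟩
      show Commute (g⁻¹ * n * g⁻¹⁻¹) (x * c)
      rw [show x * (c : G) = g⁻¹ * (x * d) * g⁻¹⁻¹ by rw [← hg]; group]
      exact hnc.map (MulAut.conj g⁻¹).toMonoidHom
  obtain ⟨c₁, hc₁, hne₁⟩ := exists_centralizer_card_ne hC (Nat.card C)
  obtain ⟨c₂, hc₂, hne₂⟩ := exists_centralizer_card_ne hC (Nat.card {e : C // Commute e c₁})
  have h0 : Nat.card {e : C // Commute e (1 : C)} = Nat.card C :=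
    Nat.card_congr (Equiv.subtypeUnivEquiv fun e => Commute.one_right e)
  have hc2 : Nat.card {e : C // Commute e c₂} ≠ Nat.card C := fun h => hc₂ (by
    rw [← Subgroup.mem_bot, ← hZ, Subgroup.mem_center_iff]
    intro e
    obtain ⟨⟨e', he'⟩, rfl⟩ :=
      ((Nat.bijective_iff_injective_and_card _).mpr ⟨Subtype.val_injective, h⟩).2 e
    exact he'.eq)
  exact hthree (x * (1 : C)) (x * c₁) (x * c₂) (hder _ (1 : C).2) (hder _ c₁.2) (hder _ c₂.2)
    (fun h => hne₁ ((hconj _ _ h).symm.trans h0)) (fun h => hc2 ((hconj _ _ h).symm.trans h0))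
    (fun h => hne₂ (hconj _ _ h).symm)

end Cfsg.Lib.Recog
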